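import Cfsg.Agent.Lib.KnownA.U6TwoSchur.Data
import Cfsg.Agent.Lib.Chev.Pack

/-!
The kernel-checkable conditions on the monomial generators.
-/

set_option autoImplicit false

namespace CfsgLib.KnownA.U6TwoSchur

open CfsgLib.Chev

/-- Apply a function to the evaluated value of a numeral. -/
noncomputable def force {α : Type} (n : ℕ) (k : ℕ → α) : α :=
  Nat.rec (k 0) (fun m _ => k (Nat.succ m)) n

theorem force_eq {α : Type} (n : ℕ) (k : ℕ → α) : force n k = k n := by cases n <;> rfl

/-- The sum of two elements of the field of four, each a pair of bits. -/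
def add4 (a b : ℕ) : ℕ := (a % 2 + b % 2) % 2 + 2 * ((a / 2 % 2 + b / 2 % 2) % 2)

/-- Multiplication by the element `2`. -/
def m2 (a : ℕ) : ℕ := a / 2 % 2 + 2 * ((a % 2 + a / 2 % 2) % 2)

/-- Multiplication by the element `3`. -/
def m3 (a : ℕ) : ℕ := m2 (m2 a)

/-- The field of a point in a packed generator. -/
noncomputable def fld (r i : ℕ) : ℕ := Nat.shiftRight (nth 0 codes r) (12 * i) % 4096

/-- Add `d` to the label. -/
def shift (d s : ℕ) : ℕ := 4 * (s / 4) + add4 (s % 4) d

/-- A generator on a state `4 * point + label`. -/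
noncomputable def act (r s : ℕ) : ℕ :=
  force s fun s => force (fld r (s / 4)) fun c => shift (s % 4) c

/-- The field of a point in a row of relative labels. -/
def rel (row j : ℕ) : ℕ := Nat.shiftRight row (3 * j) % 8

/-- A four-ary digit. -/
def dig (c k : ℕ) : ℕ := c / 4 ^ k % 4

/-- Six digits. -/
def mkc (a b c d e f : ℕ) : ℕ :=
  a % 4 + 4 * (b % 4) + 16 * (c % 4) + 64 * (d % 4) + 256 * (e % 4) + 1024 * (f % 4)

/-- The vector times `2`. -/
def smul2 (c : ℕ) : ℕ :=
  mkc (m2 (dig c 0)) (m2 (dig c 1)) (m2 (dig c 2)) (m2 (dig c 3)) (m2 (dig c 4)) (m2 (dig c 5))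

/-- The vector times `3`. -/
def smul3 (c : ℕ) : ℕ := smul2 (smul2 c)

/-- The transposition of the first two coordinates. -/
def mv0 (c : ℕ) : ℕ := mkc (dig c 1) (dig c 0) (dig c 2) (dig c 3) (dig c 4) (dig c 5)

/-- The cycle of the coordinates. -/
def mv1 (c : ℕ) : ℕ := mkc (dig c 5) (dig c 0) (dig c 1) (dig c 2) (dig c 3) (dig c 4)

/-- The diagonal element. -/
def mv2 (c : ℕ) : ℕ := mkc (m2 (dig c 0)) (m3 (dig c 1)) (dig c 2) (dig c 3) (dig c 4) (dig c 5)

/-- The transform on three coordinates. -/
def mv3 (c : ℕ) : ℕ :=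
  mkc (add4 (dig c 0) (add4 (dig c 1) (dig c 2)))
    (add4 (dig c 0) (add4 (m2 (dig c 1)) (m3 (dig c 2))))
    (add4 (dig c 0) (add4 (m3 (dig c 1)) (m2 (dig c 2)))) (dig c 3) (dig c 4) (dig c 5)

/-- The inverse of the cycle. -/
def mv5 (c : ℕ) : ℕ := mkc (dig c 1) (dig c 2) (dig c 3) (dig c 4) (dig c 5) (dig c 0)

/-- The inverse of the diagonal element. -/
def mv6 (c : ℕ) : ℕ := mkc (m3 (dig c 0)) (m2 (dig c 1)) (dig c 2) (dig c 3) (dig c 4) (dig c 5)

/-- The inverse of the transform on three coordinates. -/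
def mv7 (c : ℕ) : ℕ :=
  mkc (add4 (dig c 0) (add4 (dig c 1) (dig c 2)))
    (add4 (dig c 0) (add4 (m3 (dig c 1)) (m2 (dig c 2))))
    (add4 (dig c 0) (add4 (m2 (dig c 1)) (m3 (dig c 2)))) (dig c 3) (dig c 4) (dig c 5)

/-- The generators and their inverses on vectors. -/
noncomputable def mv (k c : ℕ) : ℕ :=
  nth (fun c => c) [mv0, mv1, mv2, mv3, mv0, mv5, mv6, mv7] k c

/-- A word on states. -/
noncomputable def actW (w : List ℕ) (s : ℕ) : ℕ := List.rec s (fun k _ ih => force ih fun t => act k t) w

/-- A word on vectors. -/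
noncomputable def mvW (w : List ℕ) (c : ℕ) : ℕ := List.rec c (fun k _ ih => force ih fun t => mv k t) w

/-- The inverse of a letter. -/
def invL (k : ℕ) : ℕ := (k + 4) % 8

/-- The inverse of a word. -/
def invW (w : List ℕ) : List ℕ := w.reverse.map invL

/-- The commutator word. -/
def commW (x y : List ℕ) : List ℕ := x ++ y ++ invW x ++ invW y

/-- The shape of a generator, its inverse and its action on the lines. -/
noncomputable def genOK (k : ℕ) : Bool :=
  allR (fun i => force (fld k i) fun ci =>
    Nat.blt ci 2688 && Nat.beq (act ((k + 4) % 8) (act k (4 * i))) (4 * i) &&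
      force (mv k (nth 0 lines i)) fun v => force (nth 0 lines (ci / 4)) fun l =>
        Nat.beq v l || Nat.beq v (smul2 l) || Nat.beq v (smul3 l))
    (upto 672)

/-- The generator preserves the relative labels on the rows in an interval. -/
noncomputable def edgeOK (k a : ℕ) : Bool :=
  allR (fun i => force (fld k (a + i)) fun ci => force (nth 0 rows (a + i)) fun row =>
    force (nth 0 rows (ci / 4)) fun row' =>
      allR (fun j => force (fld k j) fun cj => force (rel row j) fun d =>
        Nat.beq (rel row' (cj / 4)) (bif Nat.beq d 4 then 4 else add4 (add4 d (ci % 4)) (cj % 4)))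
        (upto 672))
    (upto 168)

/-- The entries of the rows are labels or four. -/
noncomputable def rowsOK : Bool :=
  allR (fun i => force (nth 0 rows i) fun row => allR (fun j => Nat.blt (rel row j) 5) (upto 672)) (upto 672)

/-- No two of the lines coincide. -/
noncomputable def linesOK : Bool :=
  allR (fun i => force (nth 0 lines i) fun l => Nat.blt l 4096 && force (smul2 l) fun m =>
    force (smul3 l) fun n =>
    force (List.rec 0 (fun a _ ih =>
      (bif Nat.beq a l || Nat.beq a m || Nat.beq a n then 1 else 0) + ih) lines) fun t =>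
      Nat.beq t 1) (upto 672)

/-- The tree. -/
noncomputable def treeOK : Bool :=
  allR (fun i => Nat.beq i 0 || force (nth 0 parents i) fun p =>
    Nat.blt p i && !(Nat.beq (rel (nth 0 rows i) p) 4)) (upto 672)

/-- A word fixes the six axes up to one scalar and adds `d` to a label. -/
noncomputable def wordOK (w : List ℕ) (d : ℕ) : Bool :=
  Nat.beq (actW w 0) d && force (mvW w 1) fun v =>
    (Nat.beq v 1 || Nat.beq v 2 || Nat.beq v 3) &&
      allR (fun i => Nat.beq (mvW w (4 ^ i)) (4 ^ i * v)) (upto 6) &&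
      List.rec true (fun k _ ih => Nat.blt k 8 && ih) w

end CfsgLib.KnownA.U6TwoSchur
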