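import Cfsg.Agent.Lib.KnownA.U6TwoSchur.Gen
import Cfsg.Agent.Lib.KnownA.U6TwoSchur.Cert

/-!
The generators act on vectors as the tabulated maps on four-ary codes.
-/

set_option autoImplicit false
set_option linter.unusedSectionVars false

namespace CfsgLib.KnownA.U6TwoSchur

open Matrix CfsgLib.Classical CfsgLib.KnownA.SUModel CfsgLib.KnownA.SUTriple

variable {F : Type*} [Field F] [Fintype F] {hF : Fintype.card F = 2 ^ 2}

/-- A primitive cube root of unity. -/
noncomputable def w4 (hF : Fintype.card F = 2 ^ 2) : F := (four (hF := hF) rfl).2.2.choose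

theorem w4_spec : w4 hF ≠ 1 ∧ w4 hF ≠ 0 ∧ qFrob hF (w4 hF) = w4 hF ^ 2 ∧ w4 hF ^ 3 = 1 ∧
    1 + w4 hF + w4 hF ^ 2 = 0 := (four (hF := hF) rfl).2.2.choose_spec

include hF in
theorem two_eq : (2 : F) = 0 := (four (hF := hF) rfl).1

include hF in
theorem norm_one {x : F} (h : x ≠ 0) : NormOne hF x := (four (hF := hF) rfl).2.1 x h

theorem cases4 (x : F) : x = 0 ∨ x = 1 ∨ x = w4 hF ∨ x = w4 hF ^ 2 := by
  classical
  obtain ⟨h1, h0, -, h3, hs⟩ := w4_spec (hF := hF)
  have h : ({0, 1, w4 hF, w4 hF ^ 2} : Finset F) = Finset.univ := by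
    refine Finset.eq_univ_of_card _ ?_
    rw [Finset.card_insert_of_notMem, Finset.card_insert_of_notMem, Finset.card_insert_of_notMem,
      Finset.card_singleton, hF]
    · norm_num
    all_goals try simp only [Finset.mem_insert, Finset.mem_singleton, not_or]
    · intro e; exact h1 (mul_right_cancel₀ h0 (by linear_combination -e))
    · exact ⟨h1.symm, fun e => h1 (by linear_combination h3 + (w4 hF) * e)⟩
    · exact ⟨zero_ne_one, h0.symm, (pow_ne_zero _ h0).symm⟩
  have := h ▸ Finset.mem_univ x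
  simpa using this

/-- The element of a pair of bits. -/
noncomputable def phi (hF : Fintype.card F = 2 ^ 2) (a : ℕ) : F :=
  if a % 4 = 0 then 0 else if a % 4 = 1 then 1 else if a % 4 = 2 then w4 hF else w4 hF ^ 2

theorem phi_mod (a : ℕ) : phi hF (a % 4) = phi hF a := by simp [phi]

theorem phi_values : phi hF 0 = 0 ∧ phi hF 1 = 1 ∧ phi hF 2 = w4 hF ∧ phi hF 3 = w4 hF ^ 2 := by
  simp [phi]

theorem phi_add (a b : ℕ) : phi hF (add4 a b) = phi hF a + phi hF b := by
  have h2 := two_eq (hF := hF)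
  obtain ⟨-, -, -, -, hs⟩ := w4_spec (hF := hF)
  rw [show add4 a b = add4 (a % 4) (b % 4) by simp only [add4]; omega, ← phi_mod a, ← phi_mod b]
  obtain ⟨p0, p1, p2, p3⟩ := phi_values (hF := hF)
  have ha : a % 4 < 4 := Nat.mod_lt _ (by norm_num)
  have hb : b % 4 < 4 := Nat.mod_lt _ (by norm_num)
  generalize a % 4 = a at ha ⊢
  generalize b % 4 = b at hb ⊢
  interval_cases a <;> interval_cases b <;> norm_num [add4, p0, p1, p2, p3] <;>
    first
      | linear_combination -h2
      | linear_combination -(w4 hF) * h2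
      | linear_combination -(w4 hF ^ 2) * h2
      | linear_combination hs - (w4 hF) * h2 - h2
      | linear_combination hs - (w4 hF ^ 2) * h2 - h2
      | linear_combination hs - (w4 hF ^ 2) * h2 - (w4 hF) * h2
      | linear_combination hs - h2
      | linear_combination hs - (w4 hF) * h2
      | linear_combination hs - (w4 hF ^ 2) * h2

theorem phi_m2 (a : ℕ) : phi hF (m2 a) = w4 hF * phi hF a := by
  obtain ⟨-, -, -, h3, hs⟩ := w4_spec (hF := hF)
  rw [show m2 a = m2 (a % 4) by simp only [m2]; omega, ← phi_mod a]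
  obtain ⟨p0, p1, p2, p3⟩ := phi_values (hF := hF)
  have ha : a % 4 < 4 := Nat.mod_lt _ (by norm_num)
  generalize a % 4 = a at ha ⊢
  interval_cases a <;> norm_num [m2, p0, p1, p2, p3] <;>
    first
      | ring1
      | linear_combination -h3

theorem phi_m3 (a : ℕ) : phi hF (m3 a) = w4 hF ^ 2 * phi hF a := by
  rw [m3, phi_m2, phi_m2]; ring

theorem phi_inj {a b : ℕ} (h : phi hF a = phi hF b) : a % 4 = b % 4 := by
  obtain ⟨h1, h0, -, h3, hs⟩ := w4_spec (hF := hF)
  have hw2 : w4 hF ^ 2 ≠ 1 := fun e => h1 (by linear_combination h3 - (w4 hF) * e)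
  have hne : w4 hF ≠ w4 hF ^ 2 := fun e => h1 (mul_right_cancel₀ h0 (by linear_combination -e))
  rw [← phi_mod a, ← phi_mod b] at h
  obtain ⟨p0, p1, p2, p3⟩ := phi_values (hF := hF)
  have ha : a % 4 < 4 := Nat.mod_lt _ (by norm_num)
  have hb : b % 4 < 4 := Nat.mod_lt _ (by norm_num)
  generalize a % 4 = a at ha h ⊢
  generalize b % 4 = b at hb h ⊢
  interval_cases a <;> interval_cases b <;> first
    | rfl
    | simp [p0, p1, p2, p3, h0, h0.symm, h1, h1.symm, hw2, hw2.symm, hne, hne.symm, pow_ne_zero 2 h0, (pow_ne_zero 2 h0).symm] at h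

/-- The vector of six digits. -/
noncomputable def vecOf (hF : Fintype.card F = 2 ^ 2) (c : ℕ) : Fin 6 → F := fun i => phi hF (dig c i)

theorem dig_mkc (a b c d e f : ℕ) : dig (mkc a b c d e f) 0 = a % 4 ∧ dig (mkc a b c d e f) 1 = b % 4 ∧
    dig (mkc a b c d e f) 2 = c % 4 ∧ dig (mkc a b c d e f) 3 = d % 4 ∧
    dig (mkc a b c d e f) 4 = e % 4 ∧ dig (mkc a b c d e f) 5 = f % 4 := by
  simp only [dig, mkc]
  norm_num
  omega

theorem vecOf_mkc (a b c d e f : ℕ) :
    vecOf hF (mkc a b c d e f) = ![phi hF a, phi hF b, phi hF c, phi hF d, phi hF e, phi hF f] := by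
  obtain ⟨h0, h1, h2, h3, h4, h5⟩ := dig_mkc a b c d e f
  funext i
  fin_cases i <;> simp [vecOf, h0, h1, h2, h3, h4, h5, phi_mod]

theorem vecOf_smul2 (c : ℕ) : vecOf hF (smul2 c) = w4 hF • vecOf hF c := by
  rw [smul2, vecOf_mkc]
  funext i
  fin_cases i <;> simp [vecOf, phi_m2]

theorem vecOf_smul3 (c : ℕ) : vecOf hF (smul3 c) = w4 hF ^ 2 • vecOf hF c := by
  rw [smul3, vecOf_smul2, vecOf_smul2, smul_smul, sq]

theorem vecOf_inj {a b : ℕ} (ha : a < 4096) (hb : b < 4096) (h : vecOf hF a = vecOf hF b) : a = b := by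
  have h0 := phi_inj (congrFun h 0)
  have h1 := phi_inj (congrFun h 1)
  have h2 := phi_inj (congrFun h 2)
  have h3 := phi_inj (congrFun h 3)
  have h4 := phi_inj (congrFun h 4)
  have h5 := phi_inj (congrFun h 5)
  simp only [dig, Fin.val_zero, Fin.val_one, Fin.val_two] at h0 h1 h2 h3 h4 h5
  norm_num at h0 h1 h2 h3 h4 h5
  omega

theorem w4_norm : NormOne hF (w4 hF) := norm_one (w4_spec (hF := hF)).2.1

theorem three_inj : Function.Injective (![0, 1, 2] : Fin 3 → Fin 6) := by decide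

/-- The transform on three coordinates. -/
noncomputable def d3 (hF : Fintype.card F = 2 ^ 2) : sug hF (Fin 3) :=
  SUModel.mk hF (dM (w4 hF))
    (by
      obtain ⟨-, -, hs, h3, hsum⟩ := w4_spec (hF := hF)
      have h2 := two_eq (hF := hF)
      have hs2 : qFrob hF (w4 hF ^ 2) = w4 hF := by
        rw [map_pow, hs]; linear_combination (w4 hF) * h3
      ext i j
      fin_cases i <;> fin_cases j <;>
        simp [dM, ct_apply, Matrix.mul_apply, Fin.sum_univ_three, hs] <;>
        first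
          | linear_combination h2
          | linear_combination hsum
          | linear_combination hsum + (w4 hF) * h3
          | linear_combination h2 + 2 * h3
          | linear_combination h2 + (w4 hF ^ 3 + 2) * h3
          | linear_combination hsum + (w4 hF + w4 hF ^ 2) * h3)
    (by
      obtain ⟨-, -, hs, h3, hsum⟩ := w4_spec (hF := hF)
      have h2 := two_eq (hF := hF)
      simp [dM, det_fin_three]
      first
        | linear_combination h2
        | linear_combination hsum - (w4 hF) * h3 + (-2 * w4 hF + w4 hF ^ 2 - 1) * h2)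

/-- The diagonal generator. -/
noncomputable def d6 (hF : Fintype.card F = 2 ^ 2) : sug hF (Fin 6) :=
  dia hF ![w4 hF, w4 hF ^ 2, 1, 1, 1, 1]
    (fun i => norm_one (by
      obtain ⟨-, h0, -⟩ := w4_spec (hF := hF)
      fin_cases i <;> simp [h0]))
    (by
      obtain ⟨-, -, -, h3, -⟩ := w4_spec (hF := hF)
      simp [Fin.prod_univ_six]
      linear_combination h3)

/-- The four generators and their inverses. -/
noncomputable def genG (hF : Fintype.card F = 2 ^ 2) : Fin 4 → sug hF (Fin 6) :=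
  ![mon hF (Equiv.swap 0 1) 0, mon hF (finRotate 6) 0, d6 hF, tri three_inj (d3 hF)]

theorem tri_three_mulVec (g : sug hF (Fin 3)) (v : Fin 6 → F) :
    mat hF (tri three_inj g) *ᵥ v = ![(mat hF g *ᵥ ![v 0, v 1, v 2]) 0, (mat hF g *ᵥ ![v 0, v 1, v 2]) 1,
      (mat hF g *ᵥ ![v 0, v 1, v 2]) 2, v 3, v 4, v 5] := by
  obtain ⟨h1, h2⟩ := tri_mulVec three_inj g v
  have e : (fun j => v ((![0, 1, 2] : Fin 3 → Fin 6) j)) = ![v 0, v 1, v 2] := by
    funext j; fin_cases j <;> rfl
  rw [e] at h1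
  funext i
  fin_cases i
  · exact h1 0
  · exact h1 1
  · exact h1 2
  all_goals exact h2 _ (by decide)

theorem d3_inv_mat : mat hF (d3 hF)⁻¹ = dM (w4 hF ^ 2) := by
  obtain ⟨-, -, hs, h3, -⟩ := w4_spec (hF := hF)
  rw [mat_inv, d3, mat_mk]
  ext i j
  fin_cases i <;> fin_cases j <;> simp [dM, ct_apply, hs]

/-- The generators act as the tables say. -/
theorem genG_vecOf (k : Fin 4) (c : ℕ) :
    mat hF (genG hF k) *ᵥ vecOf hF c = vecOf hF (mv k c) ∧
      mat hF (genG hF k)⁻¹ *ᵥ vecOf hF c = vecOf hF (mv ((k : ℕ) + 4) c) := by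
  obtain ⟨-, -, hs, h3, -⟩ := w4_spec (hF := hF)
  have hq : (2 : ℕ) = 2 := rfl
  have hw4 : w4 hF ^ 2 * w4 hF ^ 2 = w4 hF := by linear_combination (w4 hF) * h3
  fin_cases k <;> refine ⟨?_, ?_⟩ <;>
    simp only [genG, mv, CfsgLib.Chev.nth_eq, List.getD_cons_zero, List.getD_cons_succ,
      Fin.zero_eta, Fin.mk_one, Fin.reduceFinMk, Matrix.cons_val, Fin.val_zero, Fin.val_one, Fin.val_two,
      Fin.isValue, Nat.reduceAdd, mv0, mv1, mv2, mv3, mv5, mv6, mv7, vecOf_mkc]
  · rw [mat_mon_mulVec hq]; funext i; fin_cases i <;> simp [vecOf, Equiv.swap_apply_def]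
  · rw [mon_inv hq, mat_mon_mulVec hq]; funext i; fin_cases i <;> simp [vecOf, Equiv.swap_apply_def]
  · rw [mat_mon_mulVec hq]
    funext i
    have e : ∀ i, (finRotate 6).symm i = (![5, 0, 1, 2, 3, 4] : Fin 6 → Fin 6) i := by decide
    simp only [e]
    fin_cases i <;> simp [vecOf]
  · rw [mon_inv hq, mat_mon_mulVec hq]
    funext i
    have e : ∀ i, (finRotate 6)⁻¹.symm i = (![1, 2, 3, 4, 5, 0] : Fin 6 → Fin 6) i := by decide
    simp only [e]
    fin_cases i <;> simp [vecOf]
  · rw [d6, mat_dia]; funext i; rw [mulVec_diagonal]; fin_cases i <;> simp [vecOf, phi_m2, phi_m3]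
  · rw [d6, mat_inv, mat_dia, ct_diagonal]; funext i; rw [mulVec_diagonal]
    fin_cases i <;> simp [vecOf, phi_m2, phi_m3, hs] <;> left <;> linear_combination (w4 hF) * h3
  · rw [tri_three_mulVec]
    funext i; fin_cases i <;>
      simp [vecOf, d3, dM, mulVec, dotProduct, Fin.sum_univ_three, phi_add, phi_m2, phi_m3] <;> ring
  · rw [← map_inv, tri_three_mulVec, d3_inv_mat]
    funext i; fin_cases i <;>
      simp [vecOf, dM, mulVec, dotProduct, Fin.sum_univ_three, phi_add, phi_m2, phi_m3] <;>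
      first
        | ring1
        | linear_combination (w4 hF * phi hF (dig c 1)) * h3
        | linear_combination (w4 hF * phi hF (dig c 2)) * h3

end CfsgLib.KnownA.U6TwoSchur
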