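import Cfsg.Agent.Lib.KnownA.SUSiegel
import Cfsg.Agent.Lib.KnownA.U6TwoSchur.Vectors

/-!
The two-part of the multiplier of `SU₆(2)` has order at most four.
-/

set_option autoImplicit false
set_option linter.unusedSectionVars false

namespace CfsgLib.KnownA.U6TwoSchur

open Matrix CfsgLib.Classical CfsgLib.KnownA.SUModel CfsgLib.KnownA.SUHeis CfsgLib.KnownA.SUHeisExt
  CfsgLib.KnownA.SUSiegel CfsgLib.KnownA.LGood CfsgLib.KnownA.CExt CfsgLib.KnownA.SUTriple
  CfsgLib.KnownA.SUTools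
open scoped commutatorElement

universe u

variable {F : Type u} [Field F] [Fintype F] {hF : Fintype.card F = 2 ^ 2}

local notation "σ" => qFrob hF

/-- The matrix with all entries off the diagonal equal to one. -/
noncomputable def g4 (hF : Fintype.card F = 2 ^ 2) : sug hF (Fin 4) :=
  SUModel.mk hF (Matrix.of fun i j => if i = j then 0 else 1)
    (by
      have h2 := two_eq (hF := hF)
      ext i j
      simp only [Matrix.mul_apply, Fin.sum_univ_four, ct_apply, Matrix.of_apply, Matrix.one_apply]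
      fin_cases i <;> fin_cases j <;> simp <;> linear_combination h2)
    (by
      have h2 := two_eq (hF := hF)
      simp [det_succ_row_zero, Fin.sum_univ_succ, Fin.succAbove]
      linear_combination -2 * h2)

theorem g4_comm_mon (τ : Equiv.Perm (Fin 4)) (i₀ : Fin 4) :
    g4 hF * mon hF τ i₀ = mon hF τ i₀ * g4 hF := by
  refine mat_injective hF ?_
  rw [map_mul, map_mul, mat_mon2 rfl, g4, mat_mk, PEquiv.toMatrix_toPEquiv_mul, PEquiv.mul_toMatrix_toPEquiv]
  ext i j
  simp [Equiv.symm_apply_eq]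

theorem four_inj : Function.Injective (![0, 1, 2] : Fin 3 → Fin 4) := by decide

theorem dia4_mem {H : Subgroup (sug hF (Fin 4))} (hdia : ∀ f h hp, dia hF f h hp ∈ H)
    (hmon : ∀ τ i₀, mon hF τ i₀ ∈ H) (hg : g4 hF ∈ H) : tri four_inj (d3 hF) ∈ H := by
  obtain ⟨h1, h0, hs, h3, hsum⟩ := w4_spec (hF := hF)
  have h2 := two_eq (hF := hF)
  have n1 : ∀ i, NormOne hF ((![1, w4 hF, w4 hF, w4 hF] : Fin 4 → F) i) := fun i => norm_one (by
    fin_cases i <;> simp [h0])
  have n2 : ∀ i, NormOne hF ((![w4 hF, w4 hF, w4 hF, 1] : Fin 4 → F) i) := fun i => norm_one (by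
    fin_cases i <;> simp [h0])
  have p1 : ∏ i, (![1, w4 hF, w4 hF, w4 hF] : Fin 4 → F) i = 1 := by
    simp [Fin.prod_univ_four]; linear_combination h3
  have p2 : ∏ i, (![w4 hF, w4 hF, w4 hF, 1] : Fin 4 → F) i = 1 := by
    simp [Fin.prod_univ_four]; linear_combination h3
  have key : tri four_inj (d3 hF) = dia hF _ n1 p1 * g4 hF * dia hF _ n2 p2 * g4 hF *
      (dia hF _ n1 p1 * mon hF (Equiv.swap 1 2) 0) := by
    refine mat_injective hF ?_
    have hL : mat hF (tri four_inj (d3 hF)) =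
        !![1, 1, 1, 0; 1, w4 hF, w4 hF ^ 2, 0; 1, w4 hF ^ 2, w4 hF, 0; 0, 0, 0, 1] := by
      ext i j
      obtain ⟨a, b⟩ := tri_mulVec four_inj (d3 hF) (Pi.single j (1 : F))
      have e : mat hF (tri four_inj (d3 hF)) i j = (mat hF (tri four_inj (d3 hF)) *ᵥ Pi.single j (1 : F)) i := by
        simp
      rw [e]
      fin_cases i
      · refine (a 0).trans ?_
        fin_cases j <;> simp [d3, dM, mulVec, dotProduct, Fin.sum_univ_three, Pi.single_apply]
      · refine (a 1).trans ?_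
        fin_cases j <;> simp [d3, dM, mulVec, dotProduct, Fin.sum_univ_three, Pi.single_apply]
      · refine (a 2).trans ?_
        fin_cases j <;> simp [d3, dM, mulVec, dotProduct, Fin.sum_univ_three, Pi.single_apply]
      · refine (b _ (by decide)).trans ?_
        fin_cases j <;> simp
    simp only [map_mul, mat_dia, g4, mat_mk, mat_mon2 (rfl : (2 : ℕ) = 2), hL,
      PEquiv.mul_toMatrix_toPEquiv]
    ext i j
    simp only [submatrix_apply, id, Matrix.mul_apply, Fin.sum_univ_four, diagonal_apply, Matrix.of_apply,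
      Equiv.symm_swap, PEquiv.toMatrix_apply]
    fin_cases i <;> fin_cases j <;> simp [Equiv.swap_apply_def] <;> grind
  rw [key]
  exact mul_mem (mul_mem (mul_mem (mul_mem (hdia _ _ _) hg) (hdia _ _ _)) hg)
    (mul_mem (hdia _ _ _) (hmon _ _))

/-- A mover constant on two given places. -/
theorem exists_mover (a b : Fin 4) (hab : a ≠ b) :
    ∃ r : torGrp (hF := hF) 4, Moves r ∧ r.1.2 a = r.1.2 b := by
  obtain ⟨h1, h0, -, h3, -⟩ := w4_spec (hF := hF)
  let uw : Fˣ := Units.mk0 (w4 hF) h0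
  have hw2 : w4 hF ^ 2 ≠ 1 := fun e => h1 (by linear_combination h3 - (w4 hF) * e)
  let d : Fin 4 → Fˣ := fun i => if i = a ∨ i = b then uw else uw ^ 2
  have hp : ∏ i, (d i : F) = 1 := by
    simp only [Fin.prod_univ_four, d]
    fin_cases a <;> fin_cases b <;> first
      | exact absurd rfl hab
      | (simp [uw]; linear_combination (w4 hF ^ 3 + 1) * h3)
  refine ⟨⟨(1, d), fun i => norm_one (d i).ne_zero, by simpa using hp⟩, fun i => ?_, by simp [d]⟩
  show σ ((1 : Fˣ) : F) * (d i : F) ≠ 1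
  simp only [Units.val_one, map_one, one_mul, d]
  split_ifs <;> simp [uw, h1, hw2]

variable (P : Pair hF) {E : Type u} [Group E] {π : E →* sug hF (Fin 2 ⊕ Fin 4)}

theorem conj_UE {g : sug hF (Fin 4)} {e : E} (he : π e = lev g) {y : E} (hy : y ∈ UE P π) :
    e * y * e⁻¹ ∈ UE P π := by
  show π (e * y * e⁻¹) ∈ U P
  rw [map_mul, map_mul, map_inv, he]; exact conj_mem_U_lev P hy

theorem conj_comm_UE {g : sug hF (Fin 4)} {e : E} (he : π e = lev g) {c : E}
    (hc : c ∈ ⁅UE P π, UE P π⁆) : e * c * e⁻¹ ∈ ⁅UE P π, UE P π⁆ := by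
  have hle : ⁅UE P π, UE P π⁆ ≤ ⁅UE P π, UE P π⁆.comap (MulAut.conj e).toMonoidHom := by
    rw [Subgroup.commutator_le]
    intro a ha b hb
    rw [Subgroup.mem_comap, map_commutatorElement]
    exact Subgroup.commutator_mem_commutator (conj_UE P he ha) (conj_UE P he hb)
  exact hle hc

theorem zlift (hπ : IsLExt 2 π) {z : F} (hz : z + σ z = 0) :
    ∃ c ∈ ⁅UE P π, UE P π⁆, π c = zEl P z hz := by
  obtain ⟨s, hs⟩ := single_zEl P (0 : Fin 4) hz
  obtain ⟨a, ha⟩ := hπ.cs.surj (up P (Pi.single (0 : Fin 4) (1 : F)))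
  obtain ⟨b, hb⟩ := hπ.cs.surj (up P (Pi.single (0 : Fin 4) s))
  refine ⟨⁅a, b⁆, Subgroup.commutator_mem_commutator ?_ ?_, by rw [map_commutatorElement, ha, hb, ← hs]⟩
  · show π a ∈ U P; rw [ha]; exact up_mem P _
  · show π b ∈ U P; rw [hb]; exact up_mem P _

variable {r : torGrp (hF := hF) 4} {T : E}

theorem mon_mem_levNorm (hπ : IsLExt 2 π) (hr : Moves r) (hT : π T = tor P r) (τ : Equiv.Perm (Fin 4))
    (i₀ : Fin 4) : mon hF τ i₀ ∈ levNorm P π T := by
  haveI : Fact (Nat.Prime 2) := ⟨Nat.prime_two⟩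
  induction τ using Equiv.Perm.swap_induction_on generalizing i₀ with
  | one => rw [mon_one rfl]; exact one_mem _
  | swap_mul f x y hxy ih =>
    rw [← mon_mul rfl (Equiv.swap x y) f i₀ i₀ i₀]
    refine mul_mem ?_ (ih i₀)
    obtain ⟨r', hr', heq⟩ := exists_mover (hF := hF) x y hxy
    refine mem_levNorm P hπ (by norm_num) hr hr' hT _ ?_
    rw [mat_mon2 rfl]
    ext i j
    rw [diagonal_mul, mul_diagonal, PEquiv.toMatrix_apply]
    simp only [Equiv.symm_swap, Equiv.toPEquiv_apply, Option.mem_def, Option.some.injEq]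
    split_ifs with h
    · subst h
      by_cases e1 : i = x
      · subst e1; rw [Equiv.swap_apply_left, heq, mul_comm]
      by_cases e2 : i = y
      · subst e2; rw [Equiv.swap_apply_right, heq, mul_comm]
      rw [Equiv.swap_apply_of_ne_of_ne e1 e2, mul_comm]
    · simp

theorem dia_mem_levNorm (hπ : IsLExt 2 π) (hr : Moves r) (hT : π T = tor P r) (f : Fin 4 → F)
    (h : ∀ i, NormOne hF (f i)) (hp : ∏ i, f i = 1) : dia hF f h hp ∈ levNorm P π T := by
  haveI : Fact (Nat.Prime 2) := ⟨Nat.prime_two⟩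
  refine mem_levNorm P hπ (by norm_num) hr hr hT _ ?_
  rw [mat_dia, diagonal_mul_diagonal, diagonal_mul_diagonal]
  exact congrArg _ (funext fun i => mul_comm _ _)

/-- The square of a discrepancy is trivial. -/
theorem disc_sq (hπ : IsLExt 2 π) (hU : Kills π (U P)) (hr : Moves r) (hT : π T = tor P r)
    {g : sug hF (Fin 4)} {e : E} (he : π e = lev g) {v : Fin 4 → F} {w w' : E}
    (hw : w ∈ W P π T) (hw' : w' ∈ W P π T) (hv : π w = up P v)
    (hk : e * w * e⁻¹ * w'⁻¹ ∈ π.ker) : (e * w * e⁻¹ * w'⁻¹) ^ 2 = 1 := by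
  haveI : Fact (Nat.Prime 2) := ⟨Nat.prime_two⟩
  set k := e * w * e⁻¹ * w'⁻¹ with hk'
  have h2 := two_eq (hF := hF)
  obtain ⟨d, hd', hd⟩ : ∃ d hd', π (w * w) = zEl P d hd' := by
    rw [map_mul, hv, up, uEl_mul]
    have hvv : v + v = 0 := funext fun i => by simp only [Pi.add_apply, Pi.zero_apply]; linear_combination v i * h2
    have hok := (ok_up (hF := hF) v).mul (ok_up (hF := hF) v)
    refine ⟨_, ?_, uEl_congr P hvv rfl⟩
    unfold Ok at hok
    rw [hvv, hd_zero_right, add_zero] at hok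
    exact hok
  obtain ⟨c, hc, hce⟩ := zlift P hπ hd'
  have hcw : c⁻¹ * (w * w) = 1 := W_inj P hπ (by norm_num) hU hr hT
    (mul_mem (inv_mem (Subgroup.mem_sup_left hc)) (mul_mem hw hw))
    (by rw [map_mul, map_inv, hce, hd, inv_mul_cancel])
  have hc' : c = w * w := inv_mul_eq_one.1 hcw
  have hcm : e * (w * w) * e⁻¹ ∈ W P π T := by
    rw [← hc']; exact Subgroup.mem_sup_left (conj_comm_UE P he hc)
  have hsq : k ^ 2 = e * (w * w) * e⁻¹ * (w' * w')⁻¹ := by
    have hy : e * w * e⁻¹ = k * w' := by rw [hk', inv_mul_cancel_right]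
    rw [show e * (w * w) * e⁻¹ = (e * w * e⁻¹) * (e * w * e⁻¹) by group, hy,
      show k * w' * (k * w') = k * (w' * k) * w' by group, hπ.cs.comm hk w', pow_two]
    group
  refine W_inj P hπ (by norm_num) hU hr hT ?_ (MonoidHom.mem_ker.1 (pow_mem hk 2))
  rw [hsq]
  exact mul_mem hcm (inv_mem (mul_mem hw' hw'))

/-- The radical's complement is normalised, given this for one axis. -/
theorem g4_mem_levNorm (hπ : IsLExt 2 π) (hU : Kills π (U P)) (hr : Moves r) (hT : π T = tor P r)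
    {e : E} (he : π e = lev (g4 hF))
    (h : ∀ x : F, x = 1 ∨ x = w4 hF →
      ∃ w ∈ W P π T, π w = up P (Pi.single 0 x) ∧ e * w * e⁻¹ ∈ W P π T) :
    g4 hF ∈ levNorm P π T := by
  haveI : Fact (Nat.Prime 2) := ⟨Nat.prime_two⟩
  have := hπ.fin
  set Wt := W P π T with hWt
  set A := Wt ⊓ Wt.comap (MulAut.conj e).toMonoidHom with hA
  set C := A.map π with hC
  have hz : ∀ z hz', zEl P (m := 4) z hz' ∈ C := fun z hz' => by
    obtain ⟨c, hc, hce⟩ := zlift P hπ hz'
    exact ⟨c, ⟨Subgroup.mem_sup_left hc, Subgroup.mem_sup_left (conj_comm_UE P he hc)⟩, hce⟩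
  have haxis : ∀ i x, ∃ z, ∃ h : Ok (hF := hF) (Pi.single i x : Fin 4 → F) z,
      uEl P (Pi.single i x) z h ∈ C := by
    have hadd : ∀ (i : Fin 4) (x y : F),
        (∃ z, ∃ h : Ok (hF := hF) (Pi.single i x : Fin 4 → F) z, uEl P (Pi.single i x) z h ∈ C) →
        (∃ z, ∃ h : Ok (hF := hF) (Pi.single i y : Fin 4 → F) z, uEl P (Pi.single i y) z h ∈ C) →
        ∃ z, ∃ h : Ok (hF := hF) (Pi.single i (x + y) : Fin 4 → F) z, uEl P (Pi.single i (x + y)) z h ∈ C := by
      rintro i x y ⟨z, hz1, m1⟩ ⟨z', hz2, m2⟩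
      have m3 := mul_mem m1 m2
      rw [uEl_mul] at m3
      have e : (Pi.single i (x + y) : Fin 4 → F) = Pi.single i x + Pi.single i y := Pi.single_add (f := fun _ : Fin 4 => F) i x y
      exact ⟨_, by rw [e]; exact hz1.mul hz2, by rwa [uEl_congr P (h' := hz1.mul hz2) e rfl]⟩
    have hzero : ∀ x : F, x = 1 ∨ x = w4 hF → ∀ i : Fin 4,
        ∃ z, ∃ h : Ok (hF := hF) (Pi.single i x : Fin 4 → F) z, uEl P (Pi.single i x) z h ∈ C := by
      intro x hx i
      obtain ⟨w, hw, hwx, hwe⟩ := h x hx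
      obtain ⟨n, hn, hne⟩ := mon_mem_levNorm P hπ hr hT (Equiv.swap 0 i) 0
      obtain ⟨h', hconj⟩ := lev_conj P (mon hF (Equiv.swap 0 i) 0)
        (ok_up (hF := hF) (Pi.single (0 : Fin 4) x))
      have hv : mat hF (mon hF (Equiv.swap (0 : Fin 4) i) 0) *ᵥ Pi.single 0 x = Pi.single i x := by
        rw [mat_mon_mulVec rfl]
        funext j
        simp only [Pi.single_apply, Equiv.symm_apply_eq, Equiv.swap_apply_left]
      refine ⟨_, hv ▸ h', n * w * n⁻¹, ⟨?_, ?_⟩, ?_⟩
      · exact (Subgroup.mem_normalizer_iff.1 hn _).1 hw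
      · obtain ⟨k, hk, hek⟩ := hπ.cs.eq_mul_of_map_eq (show π (e * n * e⁻¹) = π n by
          rw [map_mul, map_mul, map_inv, he, hne, ← map_mul, g4_comm_mon, map_mul, mul_inv_cancel_right])
        show e * (n * w * n⁻¹) * e⁻¹ ∈ Wt
        rw [show e * (n * w * n⁻¹) * e⁻¹ = (e * n * e⁻¹) * (e * w * e⁻¹) * (e * n * e⁻¹)⁻¹ by group, hek,
          show n * k * (e * w * e⁻¹) * (n * k)⁻¹ = n * (k * (e * w * e⁻¹) * k⁻¹) * n⁻¹ by group,
          show k * (e * w * e⁻¹) * k⁻¹ = e * w * e⁻¹ by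
            rw [← hπ.cs.comm hk, mul_inv_cancel_right]]
        exact (Subgroup.mem_normalizer_iff.1 hn _).1 hwe
      · rw [map_mul, map_mul, map_inv, hne, hwx, up, hconj]
        exact uEl_congr P hv rfl
    intro i x
    rcases cases4 (hF := hF) x with rfl | rfl | rfl | rfl
    · refine ⟨0, by rw [Pi.single_zero]; exact ok_zero, ?_⟩
      rw [uEl_congr P (h' := ok_zero) (Pi.single_zero i) rfl, uEl_zero]
      exact one_mem C
    · exact hzero 1 (Or.inl rfl) i
    · exact hzero _ (Or.inr rfl) i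
    · have e2 : w4 hF ^ 2 = 1 + w4 hF := by
        obtain ⟨-, -, -, -, hsum⟩ := w4_spec (hF := hF)
        have h2 := two_eq (hF := hF)
        linear_combination hsum - h2 - (w4 hF) * h2
      rw [e2]
      exact hadd i _ _ (hzero 1 (Or.inl rfl) i) (hzero _ (Or.inr rfl) i)
  have hUC : U P ≤ C := U_le_of P C hz haxis
  refine ⟨e, ?_, he⟩
  show e ∈ Subgroup.normalizer (Wt : Set E)
  have hle : ∀ x ∈ Wt, e * x * e⁻¹ ∈ Wt := by
    intro x hx
    obtain ⟨y, hy, hyx⟩ := hUC (W_le_UE P hT hx)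
    have : y⁻¹ * x = 1 := W_inj P hπ (by norm_num) hU hr hT (mul_mem (inv_mem hy.1) hx)
      (by rw [map_mul, map_inv, hyx, inv_mul_cancel])
    rw [← inv_mul_eq_one.1 this]
    exact hy.2
  rw [Subgroup.mem_normalizer_iff]
  exact fun x => LGood.norm_iff_of_le hle x

/-- The quotient of an extension by part of its kernel. -/
theorem lext_quot {G : Type u} [Group G] {π : E →* G} (hπ : IsLExt 2 π) (N : Subgroup E) [N.Normal]
    (hN : N ≤ π.ker) : IsLExt 2 (QuotientGroup.lift N π hN) := by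
  have := hπ.fin
  refine ⟨⟨fun g => ?_, fun x hx => ?_⟩, inferInstance, fun x => ?_⟩
  · obtain ⟨b, rfl⟩ := hπ.cs.surj g; exact ⟨QuotientGroup.mk b, rfl⟩
  · obtain ⟨b, rfl⟩ := QuotientGroup.mk_surjective x
    rw [Subgroup.mem_center_iff]
    intro y
    obtain ⟨c, rfl⟩ := QuotientGroup.mk_surjective y
    rw [← QuotientGroup.mk_mul, ← QuotientGroup.mk_mul, hπ.cs.comm (show b ∈ π.ker from hx) c]
  · obtain ⟨x, hx⟩ := x
    obtain ⟨b, rfl⟩ := QuotientGroup.mk_surjective x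
    obtain ⟨a, ha⟩ := hπ.isP ⟨b, hx⟩
    exact ⟨a, Subtype.ext (by
      show (QuotientGroup.mk b : E ⧸ N) ^ (2 ^ a) = 1
      rw [← QuotientGroup.mk_pow, show b ^ 2 ^ a = 1 from congrArg Subtype.val ha]; rfl)⟩

/-- The bound four. -/
theorem lext_card (hπ : IsLExt 2 π) (hstem : π.ker ≤ commutator E) : Nat.card π.ker ∣ 4 := by
  haveI : Fact (Nat.Prime 2) := ⟨Nat.prime_two⟩
  have := hπ.fin
  obtain ⟨P⟩ := exists_pair hF
  obtain ⟨r, hr, -⟩ := exists_mover (hF := hF) 0 1 (by decide)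
  obtain ⟨T, hT⟩ := hπ.cs.surj (tor P r)
  have hU : Kills π (U P) := kills_U P hπ (by norm_num) dvd_rfl (by norm_num)
  obtain ⟨e, he⟩ := hπ.cs.surj (lev (g4 hF))
  have hpick : ∀ x : F, ∃ w ∈ W P π T, ∃ w' ∈ W P π T,
      π w = up P (Pi.single 0 x) ∧ e * w * e⁻¹ * w'⁻¹ ∈ π.ker := fun x => by
    obtain ⟨w, hw, hwx⟩ := W_onto P hπ (by norm_num) hr hT (up_mem P (Pi.single (0 : Fin 4) x))
    obtain ⟨w', hw', hwe⟩ := W_onto P hπ (by norm_num) hr hT
      (conj_mem_U_lev P (g := g4 hF) (up_mem P (Pi.single (0 : Fin 4) x)))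
    exact ⟨w, hw, w', hw', hwx, by
      rw [MonoidHom.mem_ker, map_mul, map_mul, map_mul, map_inv, map_inv, he, hwx, hwe, mul_inv_cancel]⟩
  obtain ⟨a, ha, a', ha', hax, hka⟩ := hpick 1
  obtain ⟨b, hb, b', hb', hbx, hkb⟩ := hpick (w4 hF)
  set k := e * a * e⁻¹ * a'⁻¹ with hk
  set l := e * b * e⁻¹ * b'⁻¹ with hl
  have k2 : k ^ 2 = 1 := disc_sq P hπ hU hr hT he ha ha' hax hka
  have l2 : l ^ 2 = 1 := disc_sq P hπ hU hr hT he hb hb' hbx hkb
  set N := Subgroup.zpowers k ⊔ Subgroup.zpowers l with hN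
  have hNker : N ≤ π.ker := sup_le (Subgroup.zpowers_le.2 hka) (Subgroup.zpowers_le.2 hkb)
  haveI : N.Normal := ⟨fun n hn x => by
    rw [hπ.cs.comm (hNker hn) x, mul_inv_cancel_right]
    exact hn⟩
  have hcard : Nat.card N ∣ 4 := by
    let f := (Subgroup.zpowers k).subtype.noncommCoprod (Subgroup.zpowers l).subtype
      (fun m n => (hπ.cs.comm ((Subgroup.zpowers_le.2 hka) m.2) _).symm)
    have hr' : N ≤ f.range := sup_le
      (Subgroup.zpowers_le.2 ⟨(⟨k, Subgroup.mem_zpowers k⟩, 1), show k * 1 = k from mul_one k⟩)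
      (Subgroup.zpowers_le.2 ⟨(1, ⟨l, Subgroup.mem_zpowers l⟩), show 1 * l = l from one_mul l⟩)
    refine (Subgroup.card_dvd_of_le hr').trans ?_
    refine (Subgroup.card_range_dvd f).trans ?_
    rw [Nat.card_prod, Nat.card_zpowers, Nat.card_zpowers, show 4 = 2 * 2 from rfl]
    exact Nat.mul_dvd_mul (orderOf_dvd_of_pow_eq_one k2) (orderOf_dvd_of_pow_eq_one l2)
  set π' := QuotientGroup.lift N π hNker with hπd
  have hπ' : IsLExt 2 π' := lext_quot hπ N hNker
  set q := QuotientGroup.mk' N with hq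
  have hT' : π' (q T) = tor P r := hT
  have hWq : ∀ w ∈ W P π T, q w ∈ W P π' (q T) := by
    have hUE : (UE P π).map q ≤ UE P π' := by rintro _ ⟨y, hy, rfl⟩; exact hy
    have : W P π T ≤ (W P π' (q T)).comap q := by
      refine sup_le ?_ ((Subgroup.closure_le _).2 ?_)
      · rw [Subgroup.commutator_le]
        intro x hx y hy
        rw [Subgroup.mem_comap, map_commutatorElement]
        exact Subgroup.mem_sup_left (Subgroup.commutator_mem_commutator (hUE ⟨x, hx, rfl⟩) (hUE ⟨y, hy, rfl⟩))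
      · rintro _ ⟨y, hy, rfl⟩
        exact Subgroup.mem_sup_right (Subgroup.subset_closure ⟨q y, hUE ⟨y, hy, rfl⟩, by simp⟩)
    exact fun w hw => this hw
  have hU' : Kills π' (U P) := kills_U P hπ' (by norm_num) dvd_rfl (by norm_num)
  have hg : g4 hF ∈ levNorm P π' (q T) := by
    refine g4_mem_levNorm P hπ' hU' hr hT' (e := q e) he ?_
    have conj : ∀ w w' : E, e * w * e⁻¹ * w'⁻¹ ∈ N → q e * q w * (q e)⁻¹ = q w' := fun w w' h => by
      rw [← map_inv, ← map_mul, ← map_mul, ← mul_inv_eq_one, ← map_inv, ← map_mul]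
      exact (QuotientGroup.eq_one_iff _).2 h
    rintro x (rfl | rfl)
    · exact ⟨q a, hWq _ ha, hax, by
        rw [conj a a' (Subgroup.mem_sup_left (Subgroup.mem_zpowers k))]; exact hWq _ ha'⟩
    · exact ⟨q b, hWq _ hb, hbx, by
        rw [conj b b' (Subgroup.mem_sup_right (Subgroup.mem_zpowers l))]; exact hWq _ hb'⟩
  have hLN : levNorm P π' (q T) = ⊤ :=
    gen_top rfl le_rfl _ (dia_mem_levNorm P hπ' hr hT') (mon_mem_levNorm P hπ' hr hT')
      (w := w4 hF) four_inj (D := d3 hF) rfl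
      (dia4_mem (dia_mem_levNorm P hπ' hr hT') (mon_mem_levNorm P hπ' hr hT') hg)
  have hL : Kills π' (lev (hF := hF) (m := 4)).range := by
    obtain ⟨φ, hφ, hle⟩ := lev_range_le (hF := hF) 4
    exact (kills_of_mfree hπ' (mfree_of_equiv (MonoidHom.ofInjective hφ)
      (mfree_char (hF := hF) (p := 2) dvd_rfl 5 (by norm_num) (by simp [Exc])))).mono hle
  have htop : Kills π' ⊤ := kills_top_of_index hπ' (not_dvd_index_Q P dvd_rfl)
    (kills_Q P hπ' (by norm_num) hU' hL hr hT' hLN)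
  have hker : π.ker = N := by
    refine le_antisymm (fun z hz => ?_) hNker
    rw [← QuotientGroup.eq_one_iff (N := N)]
    refine kills_top_iff.1 htop _ hz ?_
    have hmap : Subgroup.map q (commutator E) ≤ commutator (E ⧸ N) := by
      rw [commutator_def, Subgroup.map_commutator, commutator_def]
      exact Subgroup.commutator_mono le_top le_top
    exact hmap (Subgroup.mem_map_of_mem _ (hstem hz))
  rw [hker]
  exact hcard

end CfsgLib.KnownA.U6TwoSchur
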