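import Cfsg.Agent.Lib.KnownA.U6TwoSchur.Cert

/-! The checks of shape, lines, tree and words. -/

set_option autoImplicit false
set_option maxRecDepth 100000
set_option Elab.async false

namespace CfsgLib.KnownA.U6TwoSchur

theorem lines_ok : linesOK = true := by decide +kernel

theorem tree_ok : treeOK = true := by decide +kernel

theorem rows_ok : rowsOK = true := by decide +kernel

theorem word1 : wordOK (commW xWord1 yWord1) 1 = true := by decide +kernel

theorem word2 : wordOK (commW xWord2 yWord2) 2 = true := by decide +kernel

theorem gen0 : genOK 0 = true := by decide +kernel
theorem gen1 : genOK 1 = true := by decide +kernel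
theorem gen2 : genOK 2 = true := by decide +kernel
theorem gen3 : genOK 3 = true := by decide +kernel
theorem gen4 : genOK 4 = true := by decide +kernel
theorem gen5 : genOK 5 = true := by decide +kernel
theorem gen6 : genOK 6 = true := by decide +kernel
theorem gen7 : genOK 7 = true := by decide +kernel

end CfsgLib.KnownA.U6TwoSchur
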