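import Cfsg.Agent.Lib.KnownA.U6TwoSchur.Cert

/-! The checks of the relative labels for a generator. -/

set_option autoImplicit false
set_option maxRecDepth 100000
set_option Elab.async false

namespace CfsgLib.KnownA.U6TwoSchur

theorem edge2a : edgeOK 2 0 = true := by decide +kernel
theorem edge2b : edgeOK 2 168 = true := by decide +kernel
theorem edge2c : edgeOK 2 336 = true := by decide +kernel
theorem edge2d : edgeOK 2 504 = true := by decide +kernel

end CfsgLib.KnownA.U6TwoSchur
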