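import Cfsg.Agent.Lib.KnownA.U6TwoSchur.Checks
import Cfsg.Agent.Lib.KnownA.U6TwoSchur.Edge0
import Cfsg.Agent.Lib.KnownA.U6TwoSchur.Edge1
import Cfsg.Agent.Lib.KnownA.U6TwoSchur.Edge2
import Cfsg.Agent.Lib.KnownA.U6TwoSchur.Edge3
import Cfsg.Agent.Lib.KnownA.U6TwoSchur.Vectors

/-!
The fourfold cover: pairs of a unitary matrix and a permutation of the 2688 states moving the lines
alike and keeping the relative labels.
-/

set_option autoImplicit false
set_option linter.unusedSectionVars false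
set_option maxRecDepth 100000

namespace CfsgLib.KnownA.U6TwoSchur

open Matrix CfsgLib.Classical CfsgLib.KnownA.SUModel CfsgLib.KnownA.SUTriple CfsgLib.Chev
open scoped commutatorElement

universe u

theorem add4_lt (a b : ℕ) : add4 a b < 4 := by simp only [add4]; omega

theorem add4_comm (a b : ℕ) : add4 a b = add4 b a := by simp only [add4]; omega

theorem add4_assoc (a b c : ℕ) : add4 (add4 a b) c = add4 a (add4 b c) := by simp only [add4]; omega

theorem shift_div (d s : ℕ) : shift d s / 4 = s / 4 := by simp only [shift, add4]; omega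

theorem shift_mod (d s : ℕ) : shift d s % 4 = add4 (s % 4) d := by simp only [shift, add4]; omega

theorem shift_lt {d s : ℕ} (hs : s < 2688) : shift d s < 2688 := by simp only [shift, add4]; omega

theorem shift_shift (a b s : ℕ) : shift a (shift b s) = shift (add4 b a) s := by
  rw [shift, shift_div, shift_mod, add4_assoc]; rfl

theorem shift_self (d s : ℕ) : shift d (shift d s) = s := by
  rw [shift_shift]; simp only [shift, add4]; omega

theorem act_eq (r s : ℕ) : act r s = shift (s % 4) (fld r (s / 4)) := by rw [act, force_eq, force_eq]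

theorem act_shift (d r s : ℕ) : act r (shift d s) = shift d (act r s) := by
  rw [act_eq, act_eq, shift_div, shift_mod, shift_shift]

theorem gen_ok {k : ℕ} (hk : k < 8) : genOK k = true := by
  interval_cases k
  exacts [gen0, gen1, gen2, gen3, gen4, gen5, gen6, gen7]

/-- The line of a point. -/
noncomputable def line (i : ℕ) : ℕ := nth 0 lines i

/-- The row of a point. -/
noncomputable def row (i : ℕ) : ℕ := nth 0 rows i

theorem gen_facts {k : ℕ} (hk : k < 8) {i : ℕ} (hi : i < 672) :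
    fld k i < 2688 ∧ act ((k + 4) % 8) (act k (4 * i)) = 4 * i ∧
      (mv k (line i) = line (fld k i / 4) ∨ mv k (line i) = smul2 (line (fld k i / 4)) ∨
        mv k (line i) = smul3 (line (fld k i / 4))) := by
  have h := allR_upto (gen_ok hk) hi
  simp only [force_eq, Bool.and_eq_true, Bool.or_eq_true, Nat.blt_eq, Nat.beq_eq] at h
  exact ⟨h.1.1, h.1.2, or_assoc.1 h.2⟩

theorem act_lt {k : ℕ} (hk : k < 8) {s : ℕ} (hs : s < 2688) : act k s < 2688 := by
  rw [act_eq]; exact shift_lt (gen_facts hk (by omega)).1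

theorem act_inv {k : ℕ} (hk : k < 8) {s : ℕ} (hs : s < 2688) : act ((k + 4) % 8) (act k s) = s := by
  obtain ⟨-, h, -⟩ := gen_facts hk (show s / 4 < 672 by omega)
  have e : s = shift (s % 4) (4 * (s / 4)) := by simp only [shift, add4]; omega
  conv_lhs => rw [e, act_shift, act_shift, h]
  exact e.symm

theorem edge_ok (k : Fin 4) (b : Fin 4) : edgeOK k (168 * (b : ℕ)) = true := by
  fin_cases k <;> fin_cases b
  exacts [edge0a, edge0b, edge0c, edge0d, edge1a, edge1b, edge1c, edge1d,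
    edge2a, edge2b, edge2c, edge2d, edge3a, edge3b, edge3c, edge3d]

/-- The states. -/
abbrev St : Type := Fin 2688

/-- A generator as a permutation of the states. -/
noncomputable def genP (k : Fin 4) : Equiv.Perm St where
  toFun s := ⟨act k s, act_lt (by omega) s.2⟩
  invFun s := ⟨act ((k : ℕ) + 4) s, act_lt (by omega) s.2⟩
  left_inv s := Fin.ext (by
    have h := act_inv (k := k) (by omega) s.2
    rwa [Nat.mod_eq_of_lt (by omega)] at h)
  right_inv s := Fin.ext (by
    have h := act_inv (k := (k : ℕ) + 4) (by omega) s.2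
    rwa [show ((k : ℕ) + 4 + 4) % 8 = (k : ℕ) by omega] at h)

/-- The change of all labels by `d`. -/
def sP (d : ℕ) : Equiv.Perm St where
  toFun s := ⟨shift d s, shift_lt s.2⟩
  invFun s := ⟨shift d s, shift_lt s.2⟩
  left_inv s := Fin.ext (shift_self d s)
  right_inv s := Fin.ext (shift_self d s)

theorem sP_mul (a b : ℕ) : sP a * sP b = sP (add4 a b) :=
  Equiv.ext fun s => Fin.ext ((shift_shift a b s).trans (by rw [add4_comm]; rfl))

theorem sP_zero : sP 0 = 1 := Equiv.ext fun s => Fin.ext (by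
  show shift 0 s = (s : ℕ); simp only [shift, add4]; omega)

theorem sP_comm (a b : ℕ) : Commute (sP a) (sP b) := by
  rw [Commute, SemiconjBy, sP_mul, sP_mul, add4_comm]

theorem sP_apply_zero {d : ℕ} (hd : d < 4) : ((sP d (0 : St) : St) : ℕ) = d := by
  show shift d 0 = d
  simp only [shift, add4]; omega

/-- Two states with the tabulated relative label. -/
def Rel (s t : St) : Prop :=
  rel (row ((s : ℕ) / 4)) ((t : ℕ) / 4) ≠ 4 ∧
    (t : ℕ) % 4 = add4 ((s : ℕ) % 4) (rel (row ((s : ℕ) / 4)) ((t : ℕ) / 4))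

theorem rel_lt {i j : ℕ} (hi : i < 672) (hj : j < 672) : rel (row i) j < 5 := by
  have h := allR_upto rows_ok hi
  simp only [force_eq] at h
  have h' := allR_upto h hj
  simp only [Nat.blt_eq] at h'
  exact h'

theorem add4_ne (a b : ℕ) : add4 a b ≠ 4 := (add4_lt a b).ne

theorem lab_iff : ∀ a b d ci cj : Fin 4,
    add4 (cj : ℕ) b = add4 (add4 ci a) (add4 (add4 d ci) cj) ↔ (b : ℕ) = add4 a d := by decide +kernel

theorem add4_cancel : ∀ b c x : Fin 4, add4 (b : ℕ) x = add4 c x ↔ (b : ℕ) = c := by decide +kernel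

theorem add4_mod (a d : ℕ) : add4 a (d % 4) = add4 a d := by simp only [add4]; omega

theorem rel_genP (k : Fin 4) (s t : St) : Rel (genP k s) (genP k t) ↔ Rel s t := by
  have hs : (s : ℕ) / 4 < 672 := by omega
  have ht : (t : ℕ) / 4 < 672 := by omega
  have h := allR_upto (edge_ok k ⟨(s : ℕ) / 4 / 168, by omega⟩) (show (s : ℕ) / 4 % 168 < 168 by omega)
  simp only [force_eq, show 168 * ((s : ℕ) / 4 / 168) + (s : ℕ) / 4 % 168 = (s : ℕ) / 4 by omega] at h
  have h' := allR_upto h ht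
  simp only [force_eq, Nat.beq_eq] at h'
  have e1 : ((genP k s : St) : ℕ) = shift ((s : ℕ) % 4) (fld k ((s : ℕ) / 4)) := act_eq k s
  have e2 : ((genP k t : St) : ℕ) = shift ((t : ℕ) % 4) (fld k ((t : ℕ) / 4)) := act_eq k t
  simp only [Rel, e1, e2, shift_div, shift_mod]
  have hlt := rel_lt hs ht
  simp only [row] at hlt ⊢
  rw [h']
  set d := rel (nth 0 rows ((s : ℕ) / 4)) ((t : ℕ) / 4) with hd
  by_cases h4 : d = 4
  · simp [h4]
  · rw [show Nat.beq d 4 = false by rw [← Bool.not_eq_true, Nat.beq_eq]; exact h4, cond_false]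
    have key := lab_iff ⟨(s : ℕ) % 4, by omega⟩ ⟨(t : ℕ) % 4, by omega⟩ ⟨d, by omega⟩
      ⟨fld k ((s : ℕ) / 4) % 4, by omega⟩ ⟨fld k ((t : ℕ) / 4) % 4, by omega⟩
    exact and_congr (iff_of_true (add4_ne _ _) h4) key

theorem rel_sP (d : ℕ) (s t : St) : Rel (sP d s) (sP d t) ↔ Rel s t := by
  have e1 : ((sP d s : St) : ℕ) = shift d s := rfl
  have e2 : ((sP d t : St) : ℕ) = shift d t := rfl
  simp only [Rel, e1, e2, shift_div, shift_mod]
  refine and_congr Iff.rfl ?_
  generalize hr : rel (row ((s : ℕ) / 4)) ((t : ℕ) / 4) = r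
  rw [add4_assoc ((s : ℕ) % 4) d r, add4_comm d r, ← add4_assoc, ← add4_mod _ d,
    ← add4_mod (add4 ((s : ℕ) % 4) r) d]
  exact add4_cancel ⟨(t : ℕ) % 4, by omega⟩ ⟨add4 ((s : ℕ) % 4) r, add4_lt _ _⟩ ⟨d % 4, by omega⟩

variable {F : Type u} [Field F] [Fintype F] (hF : Fintype.card F = 2 ^ 2)

/-- The group downstairs. -/
abbrev X6 : Type u := ↥(sug hF (Fin 6))

/-- The permutation moves the lines as the element does. -/
def MovesLines (γ : X6 hF) (w : Equiv.Perm St) : Prop :=
  ∀ s : St, ∃ r : F, r ≠ 0 ∧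
    mat hF γ *ᵥ vecOf hF (line ((s : ℕ) / 4)) = r • vecOf hF (line (((w s : St) : ℕ) / 4))

/-- The cover. -/
noncomputable def cover : Subgroup (X6 hF × Equiv.Perm St) where
  carrier := {p | MovesLines hF p.1 p.2 ∧ (∀ s t, Rel (p.2 s) (p.2 t) ↔ Rel s t) ∧
    Commute p.2 (sP 1) ∧ Commute p.2 (sP 2)}
  one_mem' := ⟨fun s => ⟨1, one_ne_zero, by simp⟩, fun s t => Iff.rfl, Commute.one_left _, Commute.one_left _⟩
  mul_mem' := by
    rintro ⟨γ, w⟩ ⟨δ, x⟩ ⟨h1, h2, h3, h4⟩ ⟨k1, k2, k3, k4⟩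
    refine ⟨fun s => ?_, fun s t => (h2 _ _).trans (k2 s t), Commute.mul_left h3 k3, Commute.mul_left h4 k4⟩
    obtain ⟨r, r0, hr⟩ := k1 s
    obtain ⟨p, p0, hp⟩ := h1 (x s)
    refine ⟨r * p, mul_ne_zero r0 p0, ?_⟩
    show mat hF (γ * δ) *ᵥ _ = (r * p) • vecOf hF (line (((w (x s) : St) : ℕ) / 4))
    dsimp only at hr hp
    rw [map_mul, ← mulVec_mulVec, hr, mulVec_smul, hp, smul_smul]
  inv_mem' := by
    rintro ⟨γ, w⟩ ⟨h1, h2, h3, h4⟩
    refine ⟨fun s => ?_, fun s t => ?_, Commute.inv_left h3, Commute.inv_left h4⟩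
    · obtain ⟨r, r0, hr⟩ := h1 (w⁻¹ s)
      dsimp only at hr
      rw [show w (w⁻¹ s) = s from w.apply_symm_apply s] at hr
      refine ⟨r⁻¹, inv_ne_zero r0, ?_⟩
      show mat hF γ⁻¹ *ᵥ _ = r⁻¹ • vecOf hF (line (((w⁻¹ s : St) : ℕ) / 4))
      rw [show vecOf hF (line ((s : ℕ) / 4)) = r⁻¹ • (mat hF γ *ᵥ vecOf hF (line (((w⁻¹ s : St) : ℕ) / 4))) by
          rw [hr, smul_smul, inv_mul_cancel₀ r0, one_smul],
        mulVec_smul, mulVec_mulVec, ← map_mul, inv_mul_cancel, map_one, one_mulVec]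
    · have h := h2 (w⁻¹ s) (w⁻¹ t)
      dsimp only at h ⊢
      rw [show w (w⁻¹ s) = s from w.apply_symm_apply s, show w (w⁻¹ t) = t from w.apply_symm_apply t] at h
      exact h.symm

theorem gen_mem (k : Fin 4) : (genG hF k, genP k) ∈ cover hF := by
  refine ⟨fun s => ?_, rel_genP k, ?_, ?_⟩
  · have hs : (s : ℕ) / 4 < 672 := by omega
    obtain ⟨-, -, h⟩ := gen_facts (k := k) (by omega) hs
    show ∃ r : F, r ≠ 0 ∧ mat hF (genG hF k) *ᵥ _ = r • vecOf hF (line ((act k s) / 4))
    rw [act_eq, shift_div, (genG_vecOf k _).1]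
    have h0 := (w4_spec (hF := hF)).2.1
    rcases h with h | h | h <;> rw [h]
    · exact ⟨1, one_ne_zero, (one_smul _ _).symm⟩
    · exact ⟨_, h0, vecOf_smul2 _⟩
    · exact ⟨_, pow_ne_zero 2 h0, vecOf_smul3 _⟩
  all_goals exact Equiv.ext fun s => Fin.ext (act_shift _ _ _)

/-- The projection. -/
noncomputable def proj : cover hF →* X6 hF := (MonoidHom.fst _ _).comp (cover hF).subtype

/-- The scalar times the shift. -/
theorem scalar_mem {z : X6 hF} {lam : F} (hl : lam ≠ 0) (hz : mat hF z = lam • 1) (d : ℕ) :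
    (z, sP d) ∈ cover hF := by
  refine ⟨fun s => ⟨lam, hl, ?_⟩, rel_sP d, sP_comm d 1, sP_comm d 2⟩
  show mat hF z *ᵥ _ = lam • vecOf hF (line ((shift d s) / 4))
  rw [hz, shift_div, smul_mulVec, one_mulVec]

/-- The letters of words. -/
noncomputable def letter (k : ℕ) : cover hF :=
  if h : k < 4 then ⟨_, gen_mem hF ⟨k, h⟩⟩ else (⟨_, gen_mem hF ⟨(k - 4) % 4, Nat.mod_lt _ (by norm_num)⟩⟩)⁻¹

theorem letter_lo (k : Fin 4) : letter hF k = ⟨_, gen_mem hF k⟩ := by
  simp only [letter, dif_pos k.isLt, Fin.eta]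

theorem letter_hi (k : Fin 4) : letter hF ((k : ℕ) + 4) = (⟨_, gen_mem hF k⟩)⁻¹ := by
  have h : (⟨((k : ℕ) + 4 - 4) % 4, Nat.mod_lt _ (by norm_num)⟩ : Fin 4) = k := Fin.ext (by
    show ((k : ℕ) + 4 - 4) % 4 = k; omega)
  simp only [letter, dif_neg (show ¬ (k : ℕ) + 4 < 4 by omega)]
  congr 5

theorem letter_facts {k : ℕ} (hk : k < 8) :
    (∀ s : St, (((letter hF k).1.2 s : St) : ℕ) = act k s) ∧
      (∀ c, mat hF (letter hF k).1.1 *ᵥ vecOf hF c = vecOf hF (mv k c)) ∧
      letter hF (invL k) = (letter hF k)⁻¹ := by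
  by_cases h : k < 4
  · obtain ⟨j, rfl⟩ : ∃ j : Fin 4, k = j := ⟨⟨k, h⟩, rfl⟩
    rw [show invL (j : ℕ) = (j : ℕ) + 4 by simp only [invL]; omega, letter_lo, letter_hi]
    exact ⟨fun s => rfl, fun c => (genG_vecOf j c).1, rfl⟩
  · obtain ⟨j, rfl⟩ : ∃ j : Fin 4, k = (j : ℕ) + 4 := ⟨⟨k - 4, by omega⟩, by show k = k - 4 + 4; omega⟩
    rw [show invL ((j : ℕ) + 4) = (j : ℕ) by simp only [invL]; omega, letter_lo, letter_hi, inv_inv]
    exact ⟨fun s => rfl, fun c => (genG_vecOf j c).2, rfl⟩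

/-- Words. -/
noncomputable def wordC (w : List ℕ) : cover hF := (w.map (letter hF)).prod

theorem wordC_facts : ∀ (w : List ℕ), (∀ k ∈ w, k < 8) →
    (∀ s : St, (((wordC hF w).1.2 s : St) : ℕ) = actW w s) ∧
      (∀ c, mat hF (wordC hF w).1.1 *ᵥ vecOf hF c = vecOf hF (mvW w c))
  | [], _ => ⟨fun s => rfl, fun c => by simp [wordC, mvW]⟩
  | k :: w, h => by
    obtain ⟨a1, a2, -⟩ := letter_facts hF (h k List.mem_cons_self)
    obtain ⟨b1, b2⟩ := wordC_facts w fun j hj => h j (List.mem_cons_of_mem _ hj)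
    refine ⟨fun s => ?_, fun c => ?_⟩
    · show (((letter hF k).1.2 ((wordC hF w).1.2 s) : St) : ℕ) = force (actW w s) fun t => act k t
      rw [a1, b1, force_eq]
    · show mat hF ((letter hF k).1.1 * (wordC hF w).1.1) *ᵥ _ = vecOf hF (force (mvW w c) fun t => mv k t)
      rw [map_mul, ← mulVec_mulVec, b2, a2, force_eq]

theorem wordC_comm (x y : List ℕ) (hx : ∀ k ∈ x, k < 8) (hy : ∀ k ∈ y, k < 8) :
    wordC hF (commW x y) = ⁅wordC hF x, wordC hF y⁆ := by
  have hinv : ∀ z : List ℕ, (∀ k ∈ z, k < 8) → wordC hF (invW z) = (wordC hF z)⁻¹ := by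
    intro z hz
    simp only [wordC, invW, List.prod_inv_reverse, ← List.map_reverse, List.map_map]
    congr 1
    exact List.map_congr_left fun k hk => (letter_facts hF (hz k (List.mem_reverse.1 hk))).2.2
  rw [commutatorElement_def, commW, ← hinv x hx, ← hinv y hy]
  simp [wordC, mul_assoc]

theorem line_lt {i : ℕ} (hi : i < 672) : line i < 4096 := by
  have h := allR_upto lines_ok hi
  simp only [force_eq, Bool.and_eq_true, Nat.blt_eq] at h
  exact h.1

theorem count_unique (P : ℕ → Bool) : ∀ (l : List ℕ),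
    List.rec (motive := fun _ => ℕ) 0 (fun a _ ih => (bif P a then 1 else 0) + ih) l = l.countP P
  | [] => rfl
  | a :: l => by
    show (bif P a then 1 else 0) + _ = _
    rw [count_unique P l, List.countP_cons]
    cases P a <;> simp <;> omega

theorem line_eq {i j : ℕ} (hi : i < 672) (hj : j < 672)
    (h : line i = line j ∨ line i = smul2 (line j) ∨ line i = smul3 (line j)) : i = j := by
  have hl := allR_upto lines_ok hj
  simp only [force_eq, Bool.and_eq_true, count_unique, Nat.beq_eq] at hl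
  by_contra hne
  have hlen : lines.length = 672 := by decide +kernel
  obtain ⟨-, hl⟩ := hl
  set P : ℕ → Bool := fun a => Nat.beq a (nth 0 lines j) || Nat.beq a (smul2 (nth 0 lines j)) ||
    Nat.beq a (smul3 (nth 0 lines j))
  have hP : ∀ n, n = i ∨ n = j → P (nth 0 lines n) = true := by
    rintro n (rfl | rfl)
    · simp only [P, Bool.or_eq_true, Nat.beq_eq, or_assoc]; exact h
    · simp [P]
  have h2 : 2 ≤ lines.countP P := by
    rw [List.countP_eq_length_filter]
    obtain ⟨a, b, hab, ha, hb⟩ : ∃ a b, a < b ∧ (a = i ∨ a = j) ∧ (b = i ∨ b = j) := by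
      rcases lt_or_gt_of_ne hne with h | h
      exacts [⟨i, j, h, .inl rfl, .inr rfl⟩, ⟨j, i, h, .inr rfl, .inl rfl⟩]
    have ea := hP a ha
    have eb := hP b hb
    rw [nth_eq, List.getD_eq_getElem _ _ (by omega)] at ea eb
    have hsplit : lines = lines.take b ++ lines.drop b := (List.take_append_drop b lines).symm
    rw [hsplit, List.filter_append, List.length_append]
    have l1 : 1 ≤ ((lines.take b).filter P).length := List.length_pos_of_mem
      (List.mem_filter.2 ⟨List.mem_take_iff_getElem.2 ⟨a, by omega, rfl⟩, ea⟩)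
    have l2 : 1 ≤ ((lines.drop b).filter P).length := List.length_pos_of_mem
      (List.mem_filter.2 ⟨List.mem_drop_iff_getElem.2 ⟨0, by omega, by simp⟩, eb⟩)
    omega
  have : lines.countP P = 1 := hl
  omega

theorem mkc_lt (a b c d e f : ℕ) : mkc a b c d e f < 4096 := by simp only [mkc]; omega

theorem smul2_lt (c : ℕ) : smul2 c < 4096 := mkc_lt _ _ _ _ _ _

/-- A permutation over a scalar moves all labels alike. -/
theorem perm_of_scalar (p : cover hF) {lam : F} (hl : lam ≠ 0) (hz : mat hF p.1.1 = lam • 1) :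
    p.1.2 = sP (((p.1.2 (0 : St) : St) : ℕ) % 4) := by
  obtain ⟨⟨γ, w⟩, h1, hr, hc1, hc2⟩ := p
  dsimp only at hz h1 hr hc1 hc2 ⊢
  have hbase : ∀ s : St, ((w s : St) : ℕ) / 4 = (s : ℕ) / 4 := by
    intro s
    obtain ⟨r, r0, hs⟩ := h1 s
    rw [hz, smul_mulVec, one_mulVec] at hs
    have hi : ((w s : St) : ℕ) / 4 < 672 := by omega
    have hs' : vecOf hF (line ((s : ℕ) / 4)) = (lam⁻¹ * r) • vecOf hF (line (((w s : St) : ℕ) / 4)) := by
      rw [← smul_smul, ← hs, smul_smul, inv_mul_cancel₀ hl, one_smul]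
    have hlt := line_lt (show (s : ℕ) / 4 < 672 by omega)
    refine (line_eq (by omega) hi ?_).symm
    rcases cases4 (hF := hF) (lam⁻¹ * r) with e | e | e | e <;> rw [e] at hs'
    · exact absurd e (mul_ne_zero (inv_ne_zero hl) r0)
    · rw [one_smul] at hs'; exact .inl (vecOf_inj hlt (line_lt hi) hs')
    · rw [← vecOf_smul2] at hs'
      exact .inr (.inl (vecOf_inj hlt (smul2_lt _) hs'))
    · rw [← vecOf_smul3] at hs'
      exact .inr (.inr (vecOf_inj hlt (smul2_lt _) hs'))
  have hcomm : ∀ d, d < 4 → ∀ a : St, ((w (sP d a) : St) : ℕ) = shift d ((w a : St) : ℕ) := by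
    intro d hd a
    have h : Commute w (sP d) := by
      interval_cases d
      · rw [sP_zero]; exact Commute.one_right _
      · exact hc1
      · exact hc2
      · rw [show sP 3 = sP 1 * sP 2 by rw [sP_mul]; rfl]; exact hc1.mul_right hc2
    exact congrArg (fun g : Equiv.Perm St => ((g a : St) : ℕ)) h.eq
  set e := ((w (0 : St) : St) : ℕ) % 4 with he
  have key : ∀ i, i < 672 → ∀ a : St, (a : ℕ) / 4 = i → ((w a : St) : ℕ) = shift e a := by
    intro i
    induction i using Nat.strong_induction_on with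
    | _ i ih =>
      intro hi a ha
      by_cases h0 : i = 0
      · have ea : a = sP ((a : ℕ) % 4) (0 : St) := Fin.ext (by
          show (a : ℕ) = shift ((a : ℕ) % 4) 0
          simp only [shift, add4]; omega)
        have h := hcomm ((a : ℕ) % 4) (by omega) 0
        rw [← ea] at h
        have hb := hbase (0 : St)
        simp only [Fin.val_zero, Nat.zero_div] at hb
        rw [h, shift, shift, hb, ha, h0, ← he, add4_comm]
      have htree := allR_upto tree_ok hi
      simp only [force_eq, Bool.or_eq_true, Nat.beq_eq, h0, false_or, Bool.and_eq_true, Nat.blt_eq,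
        Bool.not_eq_true', ← Bool.not_eq_true] at htree
      obtain ⟨hp, hd⟩ := htree
      set p := nth 0 parents i
      set d := rel (nth 0 rows i) p with hdd
      set b : St := ⟨4 * p + add4 ((a : ℕ) % 4) d, by have := add4_lt ((a : ℕ) % 4) d; omega⟩ with hb
      have hbv : (b : ℕ) = 4 * p + add4 ((a : ℕ) % 4) d := rfl
      have := add4_lt ((a : ℕ) % 4) d
      have hb4 : (b : ℕ) / 4 = p := by rw [hbv]; omega
      have hrel : Rel a b := by
        simp only [Rel, row, ha, hb4]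
        exact ⟨hd, by rw [hbv, ← hdd]; omega⟩
      have hw := ((hr a b).2 hrel).2
      simp only [row, hbase, ha, hb4, ← hdd] at hw
      rw [ih p hp (by omega) b hb4, shift_mod, hbv,
        show (4 * p + add4 ((a : ℕ) % 4) d) % 4 = add4 ((a : ℕ) % 4) d by omega] at hw
      have hd4 : d < 4 := by have := rel_lt hi (show p < 672 by omega); simp only [row, ← hdd] at this; omega
      rw [add4_assoc _ d e, add4_comm d e, ← add4_assoc] at hw
      have hwa := (add4_cancel ⟨add4 ((a : ℕ) % 4) e, add4_lt _ _⟩ ⟨((w a : St) : ℕ) % 4, by omega⟩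
        ⟨d, hd4⟩).1 hw
      have hba := hbase a
      simp only [shift]
      dsimp only at hwa
      omega
  exact Equiv.ext fun s => Fin.ext (key _ (by omega) s rfl)

end CfsgLib.KnownA.U6TwoSchur
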