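import Cfsg.Agent.Lib.KnownA.U6TwoSchur.Cover
import Cfsg.Agent.Lib.KnownA.SUStemL
import Cfsg.Prelude.Def_KGroupFacts

/-!
The fourfold cover is a perfect group over the special unitary group, and a stem extension of the
projective group with kernel of type `3 × 2 × 2`.
-/

set_option autoImplicit false
set_option linter.unusedSectionVars false
set_option maxRecDepth 100000

namespace CfsgLib.KnownA.U6TwoSchur

open Matrix CfsgLib.Classical CfsgLib.KnownA.SUModel CfsgLib.KnownA.SUTriple
open scoped commutatorElement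

universe u

variable {F : Type u} [Field F] [Fintype F] (hF : Fintype.card F = 2 ^ 2)

theorem closure_perm : Subgroup.closure ({finRotate 6, Equiv.swap (0 : Fin 6) 1} : Set (Equiv.Perm (Fin 6))) = ⊤ := by
  have h := Equiv.Perm.closure_cycle_adjacent_swap (σ := finRotate 6) isCycle_finRotate
    support_finRotate (0 : Fin 6)
  rwa [show finRotate 6 (0 : Fin 6) = 1 by decide] at h

/-- The four generators generate. -/
theorem proj_surjective : Function.Surjective (proj hF) := by
  have hq : (2 : ℕ) = 2 := rfl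
  set H := (proj hF).range with hH
  have hg : ∀ k, genG hF k ∈ H := fun k => ⟨⟨_, gen_mem hF k⟩, rfl⟩
  let S : Subgroup (Equiv.Perm (Fin 6)) :=
    { carrier := {τ | mon hF τ 0 ∈ H}
      one_mem' := by show mon hF 1 0 ∈ H; rw [mon_one hq]; exact one_mem _
      mul_mem' := fun {a b} ha hb => by
        show mon hF (a * b) 0 ∈ H
        rw [← mon_mul hq a b 0 0 0]; exact mul_mem ha hb
      inv_mem' := fun {a} ha => by
        show mon hF a⁻¹ 0 ∈ H
        rw [← mon_inv hq a 0]; exact inv_mem ha }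
  have hS : S = ⊤ := by
    rw [eq_top_iff, ← closure_perm, Subgroup.closure_le]
    rintro _ (rfl | rfl)
    exacts [hg 1, hg 0]
  have hmon : ∀ τ i₀, mon hF τ i₀ ∈ H := fun τ i₀ => by
    rw [show mon hF τ i₀ = mon hF τ 0 from mat_injective hF (by rw [mat_mon2 hq, mat_mon2 hq])]
    exact (show τ ∈ S from hS ▸ Subgroup.mem_top τ)
  obtain ⟨h1, h0, -, h3, -⟩ := w4_spec (hF := hF)
  have hinv : (w4 hF)⁻¹ = w4 hF ^ 2 := inv_eq_of_mul_eq_one_right (by linear_combination h3)
  have hdia : ∀ f h hp, dia hF f h hp ∈ H := fun f h hp => by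
    refine dia_mem H f h hp fun i j hij x hx hxp => ?_
    have base : ∀ i j : Fin 6, i ≠ j → ∀ hx hxp,
        dia hF (Function.update (Function.update 1 i (w4 hF)) j (w4 hF)⁻¹) hx hxp ∈ H := by
      intro i j hij hx hxp
      set τ₁ := Equiv.swap (0 : Fin 6) i
      set τ := Equiv.swap (τ₁ 1) j * τ₁ with hτ
      have e0 : τ 0 = i := by
        have : τ₁ 0 = i := Equiv.swap_apply_left 0 i
        rw [hτ, Equiv.Perm.mul_apply, this, Equiv.swap_apply_of_ne_of_ne ?_ hij]
        rw [← this]; exact fun e => absurd (τ₁.injective e) (by decide)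
      have e1 : τ 1 = j := by rw [hτ, Equiv.Perm.mul_apply, Equiv.swap_apply_left]
      have key : dia hF (Function.update (Function.update 1 i (w4 hF)) j (w4 hF)⁻¹) hx hxp =
          mon hF τ 0 * d6 hF * (mon hF τ 0)⁻¹ := by
        rw [d6, mon_conj_dia]
        refine mat_injective hF ?_
        rw [mat_dia, mat_dia]
        congr 1
        funext k
        obtain ⟨l, rfl⟩ := τ.surjective k
        rw [Equiv.symm_apply_apply, hinv, ← e0, ← e1]
        simp only [Function.update_apply, EmbeddingLike.apply_eq_iff_eq, Pi.one_apply]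
        fin_cases l <;> simp
      rw [key]; exact mul_mem (mul_mem (hmon _ _) (hg 2)) (inv_mem (hmon _ _))
    have hxj := hx i
    rw [Function.update_of_ne hij, Function.update_self] at hxj
    rcases cases4 (hF := hF) x with rfl | rfl | rfl | rfl
    · exact absurd rfl hxj.ne_zero
    · have e : dia hF (Function.update (Function.update 1 i 1) j 1⁻¹) hx hxp = 1 := mat_injective hF (by
        rw [mat_dia, map_one, ← diagonal_one]; congr 1; funext k
        simp [Function.update_apply])
      rw [e]; exact one_mem _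
    · exact base i j hij _ _
    · have e : (Function.update (Function.update (1 : Fin 6 → F) i (w4 hF ^ 2)) j (w4 hF ^ 2)⁻¹) =
          Function.update (Function.update (1 : Fin 6 → F) j (w4 hF)) i (w4 hF)⁻¹ := by
        rw [Function.update_comm hij, hinv, show (w4 hF ^ 2)⁻¹ = w4 hF from
          inv_eq_of_mul_eq_one_right (by linear_combination h3)]
      have key : dia hF _ hx hxp = dia hF (Function.update (Function.update (1 : Fin 6 → F) j (w4 hF)) i (w4 hF)⁻¹)
          (fun k => e ▸ hx k) (e ▸ hxp) := mat_injective hF (by rw [mat_dia, mat_dia, e])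
      rw [key]
      exact base j i hij.symm _ _
  have htop : H = ⊤ := gen_top hq (by norm_num) H hdia hmon (w := w4 hF) three_inj (D := d3 hF) rfl (hg 3)
  exact MonoidHom.range_eq_top.1 htop

theorem mem_lt : ∀ w : List ℕ, List.rec (motive := fun _ => Bool) true (fun k _ ih => Nat.blt k 8 && ih) w = true →
    ∀ k ∈ w, k < 8
  | [], _ => fun k hk => absurd hk (List.not_mem_nil)
  | a :: w, h => by
    have h' : (Nat.blt a 8 && List.rec (motive := fun _ => Bool) true (fun k _ ih => Nat.blt k 8 && ih) w) = true := h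
    rw [Bool.and_eq_true, Nat.blt_eq] at h'
    intro k hk
    rcases List.mem_cons.1 hk with rfl | hk
    exacts [h'.1, mem_lt w h'.2 k hk]

theorem vecOf_axis (i : Fin 6) : vecOf hF (4 ^ (i : ℕ)) = Pi.single i 1 := by
  funext j
  fin_cases i <;> fin_cases j <;> norm_num [vecOf, dig, phi_values]

theorem vecOf_axis_mul (i : Fin 6) {v : ℕ} (hv : v < 4) :
    vecOf hF (4 ^ (i : ℕ) * v) = phi hF v • Pi.single i (1 : F) := by
  funext j
  interval_cases v <;> fin_cases i <;> fin_cases j <;> norm_num [vecOf, dig, phi_values]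

/-- A shift from a commutator word. -/
theorem shift_mem (x y : List ℕ) (d : ℕ) (hd : d < 4) (h : wordOK (commW x y) d = true) :
    ∃ p ∈ commutator (cover hF), p.1.1 = 1 ∧ p.1.2 = sP d := by
  simp only [wordOK, force_eq, Bool.and_eq_true, Nat.beq_eq, Bool.or_eq_true] at h
  obtain ⟨h0, ⟨hv, hrows⟩, hl⟩ := h
  have hlt := mem_lt _ hl
  have hxy : (∀ k ∈ x, k < 8) ∧ ∀ k ∈ y, k < 8 :=
    ⟨fun k hk => hlt k (by simp [commW, hk]), fun k hk => hlt k (by simp [commW, hk])⟩
  set t := wordC hF (commW x y) with ht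
  have htc : t ∈ commutator (cover hF) := by
    rw [ht, wordC_comm hF x y hxy.1 hxy.2]
    exact Subgroup.commutator_mem_commutator (Subgroup.mem_top _) (Subgroup.mem_top _)
  obtain ⟨t1, t2⟩ := wordC_facts hF _ hlt
  set v := mvW (commW x y) 1
  have hv4 : v < 4 := by omega
  have hl0 : phi hF v ≠ 0 := by
    obtain ⟨-, p1, p2, p3⟩ := phi_values (hF := hF)
    have h0' := (w4_spec (hF := hF)).2.1
    rcases hv with (e | e) | e <;> rw [e] <;> simp [p1, p2, p3, h0']
  have hmat : mat hF t.1.1 = phi hF v • 1 := by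
    ext i j
    have h := Chev.allR_upto hrows j.2
    simp only [Nat.beq_eq] at h
    have e := congrFun (t2 (4 ^ (j : ℕ))) i
    rw [h, vecOf_axis, vecOf_axis_mul hF j hv4] at e
    simpa [mulVec_single, Pi.single_apply, Matrix.one_apply, eq_comm] using e
  have hp : t.1.2 = sP d := by
    rw [perm_of_scalar hF t hl0 hmat, t1, show ((0 : St) : ℕ) = 0 from rfl, h0, Nat.mod_eq_of_lt hd]
  refine ⟨t ^ 3, pow_mem htc 3, mat_injective hF ?_, ?_⟩
  · show mat hF (t.1.1 ^ 3) = mat hF 1
    rw [map_pow, hmat, smul_pow, one_pow, map_one]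
    have : phi hF v ^ 3 = 1 := by
      have h := FiniteField.pow_card_sub_one_eq_one (phi hF v) hl0
      rwa [hF] at h
    rw [this, one_smul]
  · show t.1.2 ^ 3 = sP d
    rw [hp, pow_succ, pow_two, sP_mul, sP_mul]
    congr 1
    interval_cases d <;> rfl

theorem shifts_mem {d : ℕ} (hd : d < 4) : ∃ p ∈ commutator (cover hF), p.1.1 = 1 ∧ p.1.2 = sP d := by
  obtain ⟨p, hp, p1, p2⟩ := shift_mem hF xWord1 yWord1 1 (by norm_num) word1
  obtain ⟨r, hr, r1, r2⟩ := shift_mem hF xWord2 yWord2 2 (by norm_num) word2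
  interval_cases d
  · exact ⟨1, one_mem _, rfl, sP_zero.symm⟩
  · exact ⟨p, hp, p1, p2⟩
  · exact ⟨r, hr, r1, r2⟩
  · exact ⟨p * r, mul_mem hp hr, (by show p.1.1 * r.1.1 = 1; rw [p1, r1, mul_one]),
      (by show p.1.2 * r.1.2 = sP 3; rw [p2, r2, sP_mul]; rfl)⟩

theorem commutator_X6 : commutator (X6 hF) = ⊤ := by
  let e : X6 hF ≃* Cfsg.SU 6 F 2 := MulEquiv.subgroupCongr (sug_eq_su hF 6)
  have h := UMinDeg.commutator_su hF (n := 6) (by norm_num) (by norm_num)
  have h1 : (commutator (X6 hF)).map e.toMonoidHom = commutator (Cfsg.SU 6 F 2) := by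
    rw [commutator_def, Subgroup.map_commutator, Subgroup.map_top_of_surjective _ e.surjective,
      ← commutator_def]
  rw [h] at h1
  rw [eq_top_iff]
  intro x _
  have : e x ∈ (commutator (X6 hF)).map e.toMonoidHom := h1.symm ▸ Subgroup.mem_top _
  obtain ⟨y, hy, hyx⟩ := this
  rwa [← e.injective hyx]

theorem proj_ker (p : cover hF) (hp : proj hF p = 1) : ∃ d, d < 4 ∧ p.1.1 = 1 ∧ p.1.2 = sP d := by
  have h1 : p.1.1 = 1 := hp
  exact ⟨_, Nat.mod_lt _ (by norm_num), h1, perm_of_scalar hF p one_ne_zero (by rw [h1, map_one, one_smul])⟩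

theorem cover_perfect : commutator (cover hF) = ⊤ := by
  rw [eq_top_iff]
  intro p _
  have h : proj hF p ∈ (commutator (cover hF)).map (proj hF) := by
    rw [commutator_def, Subgroup.map_commutator, Subgroup.map_top_of_surjective _ (proj_surjective hF),
      ← commutator_def, commutator_X6 hF]
    exact Subgroup.mem_top _
  obtain ⟨c, hc, hce⟩ := h
  obtain ⟨d, hd, h1, h2⟩ := proj_ker hF (c⁻¹ * p) (by rw [map_mul, map_inv, hce, inv_mul_cancel])
  obtain ⟨r, hr, r1, r2⟩ := shifts_mem hF hd
  have : c⁻¹ * p = r := Subtype.ext (Prod.ext (h1.trans r1.symm) (h2.trans r2.symm))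
  rw [← mul_inv_cancel_left c p, this]
  exact mul_mem hc hr

theorem card_proj_ker : Nat.card (proj hF).ker = 4 := by
  let f : Fin 4 → (proj hF).ker := fun d =>
    ⟨⟨(1, sP d), scalar_mem hF one_ne_zero (by rw [map_one, one_smul]) d⟩, rfl⟩
  refine (Nat.card_eq_of_bijective f ⟨fun a b h => Fin.ext ?_, fun p => ?_⟩).symm.trans (by simp)
  · have := congrArg (fun p : (proj hF).ker => ((p.1.1.2 (0 : St) : St) : ℕ)) h
    simpa only [f, sP_apply_zero a.2, sP_apply_zero b.2] using this
  · obtain ⟨d, hd, h1, h2⟩ := proj_ker hF p.1 p.2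
    exact ⟨⟨d, hd⟩, Subtype.ext (Subtype.ext (Prod.ext h1.symm h2.symm))⟩

theorem proj_stem : Cfsg.IsStemExtension (proj hF) :=
  ⟨proj_surjective hF, fun p hp => by
    obtain ⟨d, hd, h1, h2⟩ := proj_ker hF p hp
    refine Subgroup.mem_center_iff.2 fun r => Subtype.ext (Prod.ext ?_ ?_)
    · show r.1.1 * p.1.1 = p.1.1 * r.1.1
      rw [h1, mul_one, one_mul]
    · show r.1.2 * p.1.2 = p.1.2 * r.1.2
      rw [h2]
      obtain ⟨-, -, c1, c2⟩ := r.2
      interval_cases d
      · rw [sP_zero, mul_one, one_mul]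
      · exact c1.eq
      · exact c2.eq
      · exact (show Commute r.1.2 (sP 3) by
          rw [show sP 3 = sP 1 * sP 2 by rw [sP_mul]; rfl]; exact c1.mul_right c2).eq,
    (cover_perfect hF).symm ▸ le_top⟩

theorem scalar_of_center {z : X6 hF} (hz : z ∈ Subgroup.center (X6 hF)) :
    ∃ lam : F, lam ≠ 0 ∧ mat hF z = lam • 1 := by
  obtain ⟨h1, h0, -, h3, -⟩ := w4_spec (hF := hF)
  have hq : (2 : ℕ) = 2 := rfl
  set M := mat hF z with hM
  have comm : ∀ g : X6 hF, mat hF g * M = M * mat hF g := fun g => by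
    rw [hM, ← map_mul, ← map_mul, Subgroup.mem_center_iff.1 hz g]
  have hinv : (w4 hF)⁻¹ = w4 hF ^ 2 := inv_eq_of_mul_eq_one_right (by linear_combination h3)
  have hoff : ∀ i j, i ≠ j → M i j = 0 := by
    intro i j hij
    set f := Function.update (Function.update (1 : Fin 6 → F) i (w4 hF)) j (w4 hF)⁻¹ with hf
    have hfn : ∀ k, NormOne hF (f k) := fun k => by
      simp only [hf, Function.update_apply]
      split_ifs
      · exact (w4_norm).inv
      · exact w4_norm
      · exact normOne_one hF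
    have hfp : ∏ k, f k = 1 := by
      rw [hf, Finset.prod_update_of_mem (Finset.mem_univ j)]
      rw [Finset.prod_update_of_mem (by simp [hij] : i ∈ Finset.univ \ {j})]
      simp [h0]
    have h := congrFun (congrFun (comm (dia hF f hfn hfp)) i) j
    rw [mat_dia, diagonal_mul, mul_diagonal] at h
    simp only [hf, Function.update_self, Function.update_of_ne hij, hinv] at h
    by_contra hne
    have : w4 hF = w4 hF ^ 2 := mul_left_cancel₀ hne (by linear_combination h)
    exact h1 (mul_right_cancel₀ h0 (by linear_combination -this))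
  refine ⟨M 0 0, fun e => ?_, ?_⟩
  · have hd := det_mat hF z
    rw [← hM, show M = diagonal fun i => M i i from ?_, det_diagonal] at hd
    · rw [Finset.prod_eq_zero (f := fun i => M i i) (Finset.mem_univ 0) e] at hd; exact zero_ne_one hd
    · ext i j
      by_cases h : i = j
      · subst h; simp
      · rw [hoff i j h, diagonal_apply_ne _ h]
  · ext i j
    by_cases h : i = j
    · subst h
      have h := congrFun (congrFun (comm (mon hF (Equiv.swap 0 i) 0)) 0) i
      rw [mat_mon2 hq, PEquiv.toMatrix_toPEquiv_mul, PEquiv.mul_toMatrix_toPEquiv, submatrix_apply,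
        submatrix_apply] at h
      simpa using h
    · simp [hoff i j h, Matrix.one_apply_ne h]

/-- The map onto the projective group. -/
noncomputable def eta : cover hF →* Cfsg.PSU 6 F 2 :=
  ((QuotientGroup.mk' (Subgroup.center (Cfsg.SU 6 F 2))).comp
    (MulEquiv.subgroupCongr (sug_eq_su hF 6)).toMonoidHom).comp (proj hF)

theorem eta_ker_iff (p : cover hF) : p ∈ (eta hF).ker ↔ proj hF p ∈ Subgroup.center (X6 hF) := by
  set e : X6 hF ≃* Cfsg.SU 6 F 2 := MulEquiv.subgroupCongr (sug_eq_su hF 6)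
  show QuotientGroup.mk' _ (e (proj hF p)) = 1 ↔ _
  rw [QuotientGroup.mk'_apply, QuotientGroup.eq_one_iff, Subgroup.mem_center_iff, Subgroup.mem_center_iff]
  refine ⟨fun h g => e.injective (by rw [map_mul, map_mul, h]), fun h g => ?_⟩
  obtain ⟨g', rfl⟩ := e.surjective g
  rw [← map_mul, ← map_mul, h]

theorem eta_stem : Cfsg.IsStemExtension (eta hF) := by
  refine ⟨?_, fun p hp => ?_, (cover_perfect hF).symm ▸ le_top⟩
  · exact ((QuotientGroup.mk'_surjective _).comp (MulEquiv.surjective _)).comp (proj_surjective hF)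
  · obtain ⟨lam, hl, hz⟩ := scalar_of_center hF ((eta_ker_iff hF p).1 hp)
    have h2 := perm_of_scalar hF p hl hz
    refine Subgroup.mem_center_iff.2 fun r => Subtype.ext (Prod.ext ?_ ?_)
    · exact Subgroup.mem_center_iff.1 ((eta_ker_iff hF p).1 hp) r.1.1
    · show r.1.2 * p.1.2 = p.1.2 * r.1.2
      have h4 : ((p.1.2 (0 : St) : St) : ℕ) % 4 < 4 := Nat.mod_lt _ (by norm_num)
      obtain ⟨-, -, c1, c2⟩ := r.2
      rw [h2]
      generalize ((p.1.2 (0 : St) : St) : ℕ) % 4 = d at h4 ⊢
      interval_cases d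
      · rw [sP_zero, mul_one, one_mul]
      · exact c1.eq
      · exact c2.eq
      · exact (show Commute r.1.2 (sP 3) by
          rw [show sP 3 = sP 1 * sP 2 by rw [sP_mul]; rfl]; exact c1.mul_right c2).eq

/-- The scalar matrix. -/
noncomputable def zs : X6 hF :=
  dia hF (fun _ => w4 hF) (fun _ => w4_norm) (by
    have h3 := (w4_spec (hF := hF)).2.2.2.1
    simp only [Finset.prod_const, Finset.card_univ, Fintype.card_fin]
    linear_combination (w4 hF ^ 3 + 1) * h3)

theorem mat_zs_pow (i : ℕ) : mat hF (zs hF ^ i) = (w4 hF ^ i) • 1 := by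
  rw [map_pow, zs, mat_dia, ← smul_one_eq_diagonal, smul_pow, one_pow]

theorem zs_cube : zs hF ^ 3 = 1 :=
  mat_injective hF (by rw [mat_zs_pow, (w4_spec (hF := hF)).2.2.2.1, one_smul, map_one])

/-- The label of a pair of bits. -/
def code (a b : ZMod 2) : ℕ := a.val + 2 * b.val

theorem code_add : ∀ a b a' b' : ZMod 2, code (a + a') (b + b') = add4 (code a b) (code a' b') := by decide

theorem code_inj : ∀ a b a' b' : ZMod 2, code a b = code a' b' → a = a' ∧ b = b' := by decide

theorem code_lt : ∀ a b : ZMod 2, code a b < 4 := by decide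

/-- The kernel of the map onto the projective group. -/
theorem eta_ker_equiv : Nonempty ((eta hF).ker ≃* Multiplicative (ZMod 3 × ZMod 2 × ZMod 2)) := by
  have h0 := (w4_spec (hF := hF)).2.1
  let g : Multiplicative (ZMod 3 × ZMod 2 × ZMod 2) → (eta hF).ker := fun x =>
    ⟨⟨(zs hF ^ (Multiplicative.toAdd x).1.val,
        sP (code (Multiplicative.toAdd x).2.1 (Multiplicative.toAdd x).2.2)),
      scalar_mem hF (pow_ne_zero _ h0) (mat_zs_pow hF _) _⟩, by
      rw [eta_ker_iff, Subgroup.mem_center_iff]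
      intro r
      refine mat_injective hF ?_
      show mat hF (r * zs hF ^ _) = mat hF (zs hF ^ _ * r)
      rw [map_mul, map_mul, mat_zs_pow, Matrix.smul_mul, Matrix.mul_smul, Matrix.one_mul, Matrix.mul_one]⟩
  have hmul : ∀ x y, g (x * y) = g x * g y := fun x y => by
    refine Subtype.ext (Subtype.ext (Prod.ext ?_ ?_))
    · show zs hF ^ ((Multiplicative.toAdd x).1 + (Multiplicative.toAdd y).1).val =
        zs hF ^ (Multiplicative.toAdd x).1.val * zs hF ^ (Multiplicative.toAdd y).1.val
      rw [← pow_add, ZMod.val_add, ← pow_eq_pow_mod _ (zs_cube hF)]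
    · show sP (code (_ + _) (_ + _)) = sP _ * sP _
      rw [sP_mul, code_add]
  have hbij : Function.Bijective g := by
    constructor
    · intro x y h
      have h1 := congrArg (fun p : (eta hF).ker => mat hF p.1.1.1 0 0) h
      have h2 := congrArg (fun p : (eta hF).ker => ((p.1.1.2 (0 : St) : St) : ℕ)) h
      simp only [g, mat_zs_pow, Matrix.smul_apply, Matrix.one_apply_eq, smul_eq_mul, mul_one,
        sP_apply_zero (code_lt _ _)] at h1 h2
      obtain ⟨e2, e3⟩ := code_inj _ _ _ _ h2
      refine Multiplicative.toAdd.injective (Prod.ext (ZMod.val_injective 3 ?_) (Prod.ext e2 e3))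
      have a := ZMod.val_lt (Multiplicative.toAdd x).1
      have b := ZMod.val_lt (Multiplicative.toAdd y).1
      obtain ⟨n1, -, -, h3, -⟩ := w4_spec (hF := hF)
      have n2 : w4 hF ^ 2 ≠ 1 := fun e => n1 (by linear_combination h3 - (w4 hF) * e)
      have n3 : w4 hF ≠ w4 hF ^ 2 := fun e => n1 (mul_right_cancel₀ h0 (by linear_combination -e))
      revert h1
      interval_cases hi : (Multiplicative.toAdd x).1.val <;> interval_cases hj : (Multiplicative.toAdd y).1.val <;>
        simp [n1, n1.symm, n2, n2.symm, n3, n3.symm]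
    · intro p
      obtain ⟨lam, hl, hz⟩ := scalar_of_center hF ((eta_ker_iff hF p.1).1 p.2)
      have hperm := perm_of_scalar hF p.1 hl hz
      obtain ⟨a, b, hab⟩ : ∃ a b : ZMod 2, code a b = ((p.1.1.2 (0 : St) : St) : ℕ) % 4 := by
        have h4 : ((p.1.1.2 (0 : St) : St) : ℕ) % 4 < 4 := Nat.mod_lt _ (by norm_num)
        generalize ((p.1.1.2 (0 : St) : St) : ℕ) % 4 = d at h4 ⊢
        interval_cases d
        exacts [⟨0, 0, rfl⟩, ⟨1, 0, rfl⟩, ⟨0, 1, rfl⟩, ⟨1, 1, rfl⟩]
      obtain ⟨i, hi⟩ : ∃ i : ZMod 3, w4 hF ^ i.val = lam := by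
        rcases cases4 (hF := hF) lam with e | e | e | e
        · exact absurd e hl
        · exact ⟨0, by rw [e, ZMod.val_zero, pow_zero]⟩
        · exact ⟨1, by rw [e]; exact pow_one _⟩
        · exact ⟨2, by rw [e]; rfl⟩
      refine ⟨Multiplicative.ofAdd (i, a, b), Subtype.ext (Subtype.ext (Prod.ext (mat_injective hF ?_) ?_))⟩
      · show mat hF (zs hF ^ i.val) = _
        rw [mat_zs_pow, hi, ← hz]; rfl
      · show sP (code a b) = _
        rw [hab, ← hperm]
  exact ⟨((MulEquiv.ofBijective (MonoidHom.mk' g hmul) hbij)).symm⟩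

end CfsgLib.KnownA.U6TwoSchur
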