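import Cfsg.Agent.Lib.KnownA.SUTools
import Cfsg.Agent.Lib.KnownA.SUTriple

/-!
Monomial elements and one block on three coordinates generate `SU_m(2)` for `m ≥ 4`.
-/

set_option autoImplicit false
set_option linter.unusedSectionVars false

namespace CfsgLib.KnownA.U6TwoSchur

open Matrix CfsgLib.Classical CfsgLib.KnownA.SUModel CfsgLib.KnownA.SUTools CfsgLib.KnownA.SUTriple

variable {F : Type*} [Field F] [Fintype F] {q : ℕ} {hF : Fintype.card F = q ^ 2}

local notation "σ" => qFrob hF

variable {ι : Type} [Fintype ι] [DecidableEq ι]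

include hF in
theorem neg_one_eq (hq : q = 2) : (-1 : F) = 1 := by
  obtain ⟨h2, -⟩ := four (hF := hF) hq
  linear_combination -h2

include hF in
theorem sgn_eq_one (hq : q = 2) (τ : Equiv.Perm ι) : (sgn τ : F) = 1 := by
  rcases Int.units_eq_one_or (Equiv.Perm.sign τ) with h | h <;> simp [sgn, h, neg_one_eq (hF := hF) hq]

theorem mat_mon2 (hq : q = 2) (τ : Equiv.Perm ι) (i₀ : ι) :
    mat hF (mon hF τ i₀) = (τ.symm.toPEquiv.toMatrix : Matrix ι ι F) := by
  rw [mat_mon, sgn_eq_one (hF := hF) hq τ,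
    show Function.update (1 : ι → F) i₀ 1 = 1 from Function.update_eq_self i₀ 1]
  simp [← Pi.one_def]

theorem mon_mul (hq : q = 2) (τ τ' : Equiv.Perm ι) (i₀ i₁ i₂ : ι) :
    mon hF τ i₀ * mon hF τ' i₁ = mon hF (τ * τ') i₂ := by
  refine mat_injective hF ?_
  rw [map_mul, mat_mon2 hq, mat_mon2 hq, mat_mon2 hq, ← PEquiv.toMatrix_trans, ← Equiv.toPEquiv_trans]
  congr 1

theorem mon_one (hq : q = 2) (i₀ : ι) : mon hF (1 : Equiv.Perm ι) i₀ = 1 := by
  refine mat_injective hF ?_
  rw [mat_mon2 hq, map_one, show (1 : Equiv.Perm ι).symm = Equiv.refl ι from rfl, Equiv.toPEquiv_refl,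
    PEquiv.toMatrix_refl]

theorem mon_inv (hq : q = 2) (τ : Equiv.Perm ι) (i₀ : ι) : (mon hF τ i₀)⁻¹ = mon hF τ⁻¹ i₀ :=
  inv_eq_of_mul_eq_one_right (by rw [mon_mul hq τ τ⁻¹ i₀ i₀ i₀, mul_inv_cancel, mon_one hq])

theorem mat_mon_apply (hq : q = 2) (τ : Equiv.Perm ι) (i₀ i j : ι) :
    mat hF (mon hF τ i₀) i j = if τ.symm i = j then 1 else 0 := by
  simp [mat_mon2 hq, PEquiv.toMatrix_apply]

theorem mat_mon_mulVec (hq : q = 2) (τ : Equiv.Perm ι) (i₀ : ι) (v : ι → F) :
    mat hF (mon hF τ i₀) *ᵥ v = fun i => v (τ.symm i) := by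
  rw [mat_mon2 hq, PEquiv.toMatrix_toPEquiv_mulVec]
  rfl

/-- Conjugation by a monomial element carries one block to another. -/
theorem mon_conj_tri {m : ℕ} (hq : q = 2) {a₀ a : Fin 3 → Fin m} (ha₀ : Function.Injective a₀)
    (ha : Function.Injective a) :
    ∃ τ : Equiv.Perm (Fin m), ∀ (i₀ : Fin m) (g : sug hF (Fin 3)),
      mon hF τ i₀ * tri ha₀ g * (mon hF τ i₀)⁻¹ = tri ha g := by
  classical
  have hc : Fintype.card {k : Fin m // k ∉ Set.range a₀} = Fintype.card {k : Fin m // k ∉ Set.range a} := by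
    have h1 := Fintype.card_congr (tripleEquiv ha₀)
    have h2 := Fintype.card_congr (tripleEquiv ha)
    rw [Fintype.card_sum] at h1 h2
    omega
  let c := Fintype.equivOfCardEq hc
  refine ⟨((tripleEquiv ha₀).symm.trans (Equiv.sumCongr (Equiv.refl _) c)).trans (tripleEquiv ha),
    fun i₀ g => ?_⟩
  rw [mul_inv_eq_iff_eq_mul]
  refine mat_injective hF ?_
  rw [map_mul, map_mul, mat_mon2 hq, PEquiv.toMatrix_toPEquiv_mul, PEquiv.mul_toMatrix_toPEquiv]
  ext i j
  obtain ⟨r, rfl⟩ := (tripleEquiv ha).surjective i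
  obtain ⟨s, rfl⟩ := (tripleEquiv ha₀).surjective j
  simp only [submatrix_apply, id, Equiv.symm_trans_apply, Equiv.symm_symm, Equiv.trans_apply,
    Equiv.symm_apply_apply]
  rw [tri_apply, tri_apply]
  rcases r with r | r <;> rcases s with s | s <;>
    simp [Matrix.one_apply, Equiv.symm_apply_eq]

/-- Monomial elements of the block are monomial. -/
theorem tri_mon {m : ℕ} (hq : q = 2) {a : Fin 3 → Fin m} (ha : Function.Injective a)
    (π : Equiv.Perm (Fin 3)) (i₀ : Fin 3) :
    ∃ τ : Equiv.Perm (Fin m), ∀ j₀, tri ha (mon hF π i₀) = mon hF τ j₀ := by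
  classical
  refine ⟨((tripleEquiv ha).symm.trans (Equiv.sumCongr π (Equiv.refl _))).trans (tripleEquiv ha),
    fun j₀ => mat_injective hF ?_⟩
  ext i j
  obtain ⟨r, rfl⟩ := (tripleEquiv ha).surjective i
  obtain ⟨s, rfl⟩ := (tripleEquiv ha).surjective j
  rw [tri_apply, mat_mon_apply hq]
  simp only [Equiv.symm_trans_apply, Equiv.symm_symm, Equiv.symm_apply_apply, EmbeddingLike.apply_eq_iff_eq]
  rcases r with r | r <;> rcases s with s | s <;>
    simp [mat_mon_apply hq, Matrix.one_apply]

/-- Extending a function on three coordinates. -/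
noncomputable def ext3 {m : ℕ} {a : Fin 3 → Fin m} (ha : Function.Injective a) (u : Fin 3 → F)
    (c : {k : Fin m // k ∉ Set.range a} → F) : Fin m → F :=
  fun i => Sum.elim u c ((tripleEquiv ha).symm i)

theorem tri_dia {m : ℕ} {a : Fin 3 → Fin m} (ha : Function.Injective a) (u : Fin 3 → F)
    (h : ∀ i, NormOne hF (u i)) (hp : ∏ i, u i = 1) :
    ∃ f : Fin m → F, ∃ h' hp', tri ha (dia hF u h hp) = dia hF f h' hp' := by
  classical
  refine ⟨ext3 ha u fun _ => 1, fun i => ?_, ?_, mat_injective hF ?_⟩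
  · unfold ext3
    rcases (tripleEquiv ha).symm i with r | r
    · exact h r
    · exact normOne_one hF
  · rw [← Equiv.prod_comp (tripleEquiv ha)]
    simp [ext3, hp]
  · ext i j
    obtain ⟨r, rfl⟩ := (tripleEquiv ha).surjective i
    obtain ⟨s, rfl⟩ := (tripleEquiv ha).surjective j
    rw [tri_apply, mat_dia, mat_dia]
    simp only [ext3, diagonal_apply, Equiv.symm_apply_apply, EmbeddingLike.apply_eq_iff_eq]
    rcases r with r | r <;> rcases s with s | s <;> simp [Matrix.one_apply, diagonal_apply]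

theorem dia_conj_tri {m : ℕ} {a : Fin 3 → Fin m} (ha : Function.Injective a) (u : Fin 3 → F)
    (hu : ∀ i, NormOne hF (u i)) (c : {k : Fin m // k ∉ Set.range a} → F) (hc : ∀ k, NormOne hF (c k))
    (h : ∀ i, NormOne hF (ext3 ha u c i)) (hp : ∏ i, ext3 ha u c i = 1) (g : sug hF (Fin 3)) :
    dia hF (ext3 ha u c) h hp * tri ha g * (dia hF (ext3 ha u c) h hp)⁻¹ = tri ha (conjDia u hu g) := by
  classical
  refine mat_injective hF ?_
  rw [map_mul, map_mul, mat_inv, mat_dia, ct_diagonal]
  ext i j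
  obtain ⟨r, rfl⟩ := (tripleEquiv ha).surjective i
  obtain ⟨s, rfl⟩ := (tripleEquiv ha).surjective j
  rw [tri_apply, mul_diagonal, diagonal_mul, tri_apply]
  simp only [ext3, Equiv.symm_apply_apply]
  rcases r with r | r <;> rcases s with s | s
  · simp only [fromBlocks_apply₁₁, Sum.elim_inl, conjDia, mat_mk, ct_diagonal, mul_diagonal, diagonal_mul]
  · simp
  · simp
  · simp only [fromBlocks_apply₂₂, Sum.elim_inr, Matrix.one_apply]
    split_ifs with e
    · subst e; rw [mul_one, mul_comm]; exact hc r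
    · rw [mul_zero, zero_mul]

/-- The transform on three coordinates. -/
noncomputable def dM (w : F) : Matrix (Fin 3) (Fin 3) F := !![1, 1, 1; 1, w, w ^ 2; 1, w ^ 2, w]

/-- The subgroup meeting the block is everything. -/
theorem block_mem {m : ℕ} (hq : q = 2) (hm : 4 ≤ m) (H : Subgroup (sug hF (Fin m)))
    (hdia : ∀ f h hp, dia hF f h hp ∈ H) (hmon : ∀ τ i₀, mon hF τ i₀ ∈ H)
    {w : F} {a₀ : Fin 3 → Fin m} (ha₀ : Function.Injective a₀) {D : sug hF (Fin 3)}
    (hD : mat hF D = dM w) (hDH : tri ha₀ D ∈ H)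
    (a : Fin 3 → Fin m) (ha : Function.Injective a) (g : sug hF (Fin 3)) : tri ha g ∈ H := by
  classical
  obtain ⟨h2, hN, -⟩ := four (hF := hF) hq
  have hm0 : Nonempty (Fin m) := ⟨⟨0, by omega⟩⟩
  set K := H.comap (tri (hF := hF) ha) with hK
  show g ∈ K
  have kdia : ∀ u h hp, dia hF u h hp ∈ K := fun u h hp => by
    obtain ⟨f, h', hp', e⟩ := tri_dia ha u h hp
    show tri ha _ ∈ H
    rw [e]; exact hdia _ _ _
  have kmon : ∀ π i₀, mon hF π i₀ ∈ K := fun π i₀ => by
    obtain ⟨τ, e⟩ := tri_mon (hF := hF) hq ha π i₀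
    show tri ha _ ∈ H
    rw [e hm0.some]; exact hmon _ _
  have kD : D ∈ K := by
    obtain ⟨τ, e⟩ := mon_conj_tri (hF := hF) hq ha₀ ha
    show tri ha _ ∈ H
    rw [← e hm0.some]; exact mul_mem (mul_mem (hmon _ _) hDH) (inv_mem (hmon _ _))
  have kconj : ∀ u (hu : ∀ i, NormOne hF (u i)), conjDia u hu D ∈ K := fun u hu => by
    obtain ⟨k, hk⟩ : ∃ k, k ∉ Set.range a := by
      by_contra hne
      have : Function.Surjective a := fun k => by_contra fun h => hne ⟨k, h⟩
      have := Fintype.card_le_of_surjective a this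
      simp at this
      omega
    let k' : {k : Fin m // k ∉ Set.range a} := ⟨k, hk⟩
    let c : {k : Fin m // k ∉ Set.range a} → F := Function.update 1 k' (∏ i, u i)⁻¹
    have hu0 : (∏ i, u i) ≠ 0 := Finset.prod_ne_zero_iff.2 fun i _ => (hu i).ne_zero
    have hc : ∀ k, NormOne hF (c k) := fun j => by
      by_cases h : j = k'
      · subst h; simp only [c, Function.update_self]; exact hN _ (inv_ne_zero hu0)
      · simp [c, Function.update_of_ne h, normOne_one]
    have hn : ∀ i, NormOne hF (ext3 ha u c i) := fun i => by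
      unfold ext3; rcases (tripleEquiv ha).symm i with r | r
      · exact hu r
      · exact hc r
    have hp : ∏ i, ext3 ha u c i = 1 := by
      rw [← Equiv.prod_comp (tripleEquiv ha)]
      simp only [ext3, Equiv.symm_apply_apply, Fintype.prod_sum_type, Sum.elim_inl, Sum.elim_inr, c]
      rw [Finset.prod_update_of_mem (Finset.mem_univ _)]
      simp only [Pi.one_apply, Finset.prod_const_one, mul_one]
      exact mul_inv_cancel₀ hu0
    show tri ha _ ∈ H
    rw [← dia_conj_tri ha u hu c hc hn hp]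
    exact mul_mem (mul_mem (hdia _ _ _) kD) (inv_mem (hdia _ _ _))
  have hN' : ∀ x : F, x ≠ 0 → NormOne hF x := hN
  -- full columns
  have hcol : ∀ g : sug hF (Fin 3), ∃ k ∈ K, mat hF k *ᵥ Pi.single 0 1 = mat hF g *ᵥ Pi.single 0 1 := by
    intro g
    set u := mat hF g *ᵥ Pi.single 0 1 with hu
    have hnorm : σ (u 0) * u 0 + σ (u 1) * u 1 + σ (u 2) * u 2 = 1 := by
      have := congrFun (congrFun (ct_mat hF g) 0) 0
      simpa [hu, Matrix.mul_apply, ct_apply, Fin.sum_univ_three] using this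
    have hd : ∀ c : F, c ≠ 0 → ∃ d ∈ K, mat hF d *ᵥ Pi.single 0 1 = Pi.single 0 c := fun c hc => by
      refine ⟨dia hF ![c, c⁻¹, 1] (fun i => hN' _ (by fin_cases i <;> simp [hc]))
        (by simp [Fin.prod_univ_three, mul_inv_cancel₀ hc]), kdia _ _ _, ?_⟩
      rw [mat_dia, diagonal_mulVec_single]; simp
    by_cases hall : ∀ i, u i ≠ 0
    · obtain ⟨d, hdK, hd'⟩ := hd (u 0) (hall 0)
      have hu' : ∀ i, NormOne hF (u i) := fun i => hN' _ (hall i)
      refine ⟨conjDia u hu' D * d, mul_mem (kconj u hu') hdK, ?_⟩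
      rw [map_mul, ← mulVec_mulVec, hd', conjDia, mat_mk, hD, ct_diagonal]
      have h0 : σ (u 0) * u 0 = 1 := hu' 0
      funext i
      rw [mulVec_single]
      fin_cases i <;> simp [dM, mul_diagonal, diagonal_mul] <;>
        first
          | linear_combination u 0 * h0
          | linear_combination u 1 * h0
          | linear_combination u 2 * h0
    · have hz : ∀ i, σ (u i) * u i = if u i = 0 then 0 else 1 := fun i => by
        split_ifs with h
        · simp [h]
        · exact hN' _ h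
      rw [hz, hz, hz] at hnorm
      simp only [not_forall, not_not] at hall
      obtain ⟨j, hj⟩ : ∃ j, u j ≠ 0 ∧ ∀ i, i ≠ j → u i = 0 := by
        have e2 : (1 : F) + 1 = 0 := by linear_combination h2
        obtain ⟨z, hz0⟩ := hall
        by_cases a0 : u 0 = 0 <;> by_cases a1 : u 1 = 0 <;> by_cases a2 : u 2 = 0 <;>
          simp only [a0, a1, a2, if_true, if_false, add_zero, zero_add, e2, zero_ne_one] at hnorm
        · exact ⟨2, a2, fun i hi => by fin_cases i <;> simp_all⟩
        · exact ⟨1, a1, fun i hi => by fin_cases i <;> simp_all⟩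
        · exact ⟨0, a0, fun i hi => by fin_cases i <;> simp_all⟩
        · fin_cases z <;> simp_all
      obtain ⟨d, hdK, hd'⟩ := hd (u j) hj.1
      refine ⟨mon hF (Equiv.swap 0 j) 0 * d, mul_mem (kmon _ _) hdK, ?_⟩
      rw [map_mul, ← mulVec_mulVec, hd', mat_mon_mulVec hq]
      funext i
      by_cases h : i = j
      · subst h; simp
      · rw [Pi.single_eq_of_ne, hj.2 i h]
        rw [Equiv.symm_swap]
        intro e
        exact h ((Equiv.swap 0 j).injective (e.trans (Equiv.swap_apply_right 0 j).symm))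
  obtain ⟨k, hk, hke⟩ := hcol g
  suffices k⁻¹ * g ∈ K by have := mul_mem hk this; rwa [mul_inv_cancel_left] at this
  have he : mat hF (k⁻¹ * g) *ᵥ Pi.single 0 1 = Pi.single 0 1 := by
    rw [map_mul, ← mulVec_mulVec, ← hke, mulVec_mulVec, ← map_mul, inv_mul_cancel, map_one, one_mulVec]
  generalize k⁻¹ * g = h at he ⊢
  have hdiag : ∀ h : sug hF (Fin 3), (∀ i j, i ≠ j → mat hF h i j = 0) → h ∈ K := by
    intro h hoff
    have hmat : mat hF h = diagonal fun i => mat hF h i i := by
      ext i j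
      by_cases e : i = j
      · subst e; simp
      · rw [hoff i j e, diagonal_apply_ne _ e]
    have hp : ∏ i, mat hF h i i = 1 := by
      have := det_mat hF h
      rwa [hmat, det_diagonal] at this
    have hn : ∀ i, NormOne hF (mat hF h i i) := fun i => hN' _ fun e => by
      have := Finset.prod_eq_zero (Finset.mem_univ i) e (f := fun i => mat hF h i i)
      rw [hp] at this; exact one_ne_zero this
    rw [show h = dia hF _ hn hp from mat_injective hF hmat]
    exact kdia _ _ _
  have c0 : ∀ i, mat hF h i 0 = if i = 0 then 1 else 0 := fun i => by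
    have := congrFun he i
    simpa [mulVec_single, Pi.single_apply] using this
  have E : ∀ i j, ∑ l, σ (mat hF h l i) * mat hF h l j = if i = j then 1 else 0 := fun i j => by
    have := congrFun (congrFun (ct_mat hF h) i) j
    simpa [Matrix.mul_apply, ct_apply, Matrix.one_apply] using this
  have r1 : mat hF h 0 1 = 0 := by simpa [Fin.sum_univ_three, c0] using E 0 1
  have r2 : mat hF h 0 2 = 0 := by simpa [Fin.sum_univ_three, c0] using E 0 2
  have E11 := E 1 1
  have E12 := E 1 2
  simp [Fin.sum_univ_three, r1, r2] at E11 E12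
  have hz : ∀ x : F, x ≠ 0 → σ x * x = 1 := hN
  by_cases b : mat hF h 2 1 = 0
  · refine hdiag h fun i j hij => ?_
    simp [b] at E11 E12
    have a1 : mat hF h 1 1 ≠ 0 := fun e => by simp [e] at E11
    have : mat hF h 1 2 = 0 := by simpa [a1] using E12
    fin_cases i <;> fin_cases j <;> simp_all
  · have a1 : mat hF h 1 1 = 0 := by
      by_contra a1
      rw [hz _ b, hz _ a1] at E11
      exact one_ne_zero (show (1 : F) = 0 by linear_combination h2 - E11)
    have : mat hF h 2 2 = 0 := by simpa [a1, b] using E12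
    suffices mon hF (Equiv.swap (1 : Fin 3) 2) 0 * h ∈ K by
      have := mul_mem (inv_mem (kmon (Equiv.swap (1 : Fin 3) 2) 0)) this
      rwa [inv_mul_cancel_left] at this
    refine hdiag _ fun i j hij => ?_
    rw [map_mul, mat_mon2 hq, PEquiv.toMatrix_toPEquiv_mul, submatrix_apply, id, Equiv.symm_swap]
    fin_cases i <;> fin_cases j <;> simp_all [Equiv.swap_apply_def]

/-- Monomial elements and one block generate everything. -/
theorem gen_top {m : ℕ} (hq : q = 2) (hm : 4 ≤ m) (H : Subgroup (sug hF (Fin m)))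
    (hdia : ∀ f h hp, dia hF f h hp ∈ H) (hmon : ∀ τ i₀, mon hF τ i₀ ∈ H)
    {w : F} {a₀ : Fin 3 → Fin m} (ha₀ : Function.Injective a₀) {D : sug hF (Fin 3)}
    (hD : mat hF D = dM w) (hDH : tri ha₀ D ∈ H) : H = ⊤ :=
  SUTriple.eq_top hq (by omega) H (block_mem hq hm H hdia hmon ha₀ hD hDH)

/-- All diagonal elements come from those on two places. -/
theorem dia_mem (H : Subgroup (sug hF ι)) (f : ι → F) (h : ∀ i, NormOne hF (f i)) (hp : ∏ i, f i = 1)
    (h2 : ∀ i j, i ≠ j → ∀ x : F, ∀ hx hxp,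
      dia hF (Function.update (Function.update 1 i x) j x⁻¹) hx hxp ∈ H) :
    dia hF f h hp ∈ H := by
  classical
  suffices ∀ (n : ℕ) (f : ι → F) (h : ∀ i, NormOne hF (f i)) (hp : ∏ i, f i = 1),
      (Finset.univ.filter fun i => f i ≠ 1).card = n → dia hF f h hp ∈ H from this _ f h hp rfl
  intro n
  induction n using Nat.strong_induction_on with
  | _ n ih =>
  intro f h hp hn
  by_cases hne : ∀ i, f i = 1
  · have : dia hF f h hp = 1 := mat_injective hF (by
      rw [mat_dia, map_one, show f = fun _ => 1 from funext hne, diagonal_one])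
    rw [this]; exact one_mem _
  simp only [not_forall] at hne
  obtain ⟨i, hi⟩ := hne
  obtain ⟨j, hji, hj⟩ : ∃ j, j ≠ i ∧ f j ≠ 1 := by
    by_contra hno
    refine hi ?_
    rw [← hp, Finset.prod_eq_single i (fun b _ hb => by_contra fun e => hno ⟨b, hb, e⟩) (by simp)]
  set p := Function.update (Function.update (1 : ι → F) i (f i)) j (f i)⁻¹ with hpd
  have hpn : ∀ k, NormOne hF (p k) := fun k => by
    simp only [hpd, Function.update_apply]
    split_ifs
    · exact (h i).inv
    · exact h i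
    · exact normOne_one hF
  have hpp : ∏ k, p k = 1 := by
    rw [hpd, Finset.prod_update_of_mem (Finset.mem_univ j)]
    rw [Finset.prod_update_of_mem (by simp [hji.symm] : i ∈ Finset.univ \ {j})]
    simp [(h i).ne_zero]
  set f' : ι → F := fun k => f k * (p k)⁻¹ with hf'
  have hn' : ∀ k, NormOne hF (f' k) := fun k => (h k).mul hF (hpn k).inv
  have hp' : ∏ k, f' k = 1 := by rw [hf', Finset.prod_mul_distrib, hp, Finset.prod_inv_distrib, hpp]; simp
  have e : dia hF f h hp = dia hF p hpn hpp * dia hF f' hn' hp' := mat_injective hF (by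
    rw [map_mul, mat_dia, mat_dia, mat_dia, diagonal_mul_diagonal]
    congr 1; funext k; rw [hf', mul_left_comm, mul_inv_cancel₀ (hpn k).ne_zero, mul_one])
  rw [e]
  refine mul_mem (h2 i j hji.symm _ _ _) (ih _ ?_ f' hn' hp' rfl)
  rw [← hn]
  refine Finset.card_lt_card ((Finset.ssubset_iff_of_subset fun k hk => ?_).2 ⟨i, by simp [hi], ?_⟩)
  · simp only [Finset.mem_filter, Finset.mem_univ, true_and] at hk ⊢
    intro e1
    by_cases a : k = i
    · subst a; exact hi e1
    by_cases b : k = j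
    · subst b; exact hj e1
    exact hk (by simp [hf', hpd, a, b, e1])
  · simp [hf', hpd, hji.symm, (h i).ne_zero]

end CfsgLib.KnownA.U6TwoSchur
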