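import Cfsg.Agent.Lib.KnownA.U6TwoSchur.Exist
import Cfsg.Agent.Lib.KnownA.U6TwoSchur.Bound
import Cfsg.Agent.Lib.KnownA.OrthMult

/-!
The Schur multiplier of `PSU₆(2)` is the product of cyclic groups of orders three, two and two.
-/

set_option autoImplicit false
set_option linter.unusedSectionVars false

namespace CfsgLib.KnownA.U6TwoSchur

open Matrix CfsgLib.Classical CfsgLib.KnownA.SUModel CfsgLib.KnownA.LGood CfsgLib.KnownA.CExt

universe u

variable {F : Type u} [Field F] [Fintype F] (hF : Fintype.card F = 2 ^ 2)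

/-- Stem extensions of the special unitary group have kernels of order dividing four. -/
theorem stem_card {Δ : Type u} [Group Δ] [Finite Δ] {θ : Δ →* X6 hF} (hθ : Cfsg.IsStemExtension θ) :
    Nat.card θ.ker ∣ 4 := by
  haveI : Fact (Nat.Prime 2) := ⟨Nat.prime_two⟩
  have hodd : ∀ {d : ℕ}, d.Prime → d ∣ Nat.card θ.ker → d = 2 := by
    intro d hd hdvd
    by_contra hne
    haveI : Fact d.Prime := ⟨hd⟩
    exact OrthMult.not_dvd_stem
      (SUStemL.good_su (hF := hF) (fun h => hne ((Nat.prime_dvd_prime_iff_eq hd Nat.prime_two).1 h)) 6).mfree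
      hθ hdvd
  have hp : IsPGroup 2 θ.ker :=
    IsPGroup.of_card (Nat.eq_prime_pow_of_unique_prime_dvd Nat.card_pos.ne' hodd)
  let e : sug hF (Fin 2 ⊕ Fin 4) ≃* X6 hF := reindexSU hF finSumFinEquiv
  have hk : (e.symm.toMonoidHom.comp θ).ker = θ.ker := by ext x; simp [MonoidHom.mem_ker]
  have hl : IsLExt 2 (e.symm.toMonoidHom.comp θ) :=
    ⟨⟨e.symm.surjective.comp hθ.1, hk ▸ hθ.2.1⟩, inferInstance, hk ▸ hp⟩
  rw [← hk]
  exact lext_card hl (hk.le.trans hθ.2.2)

/-- The cover has trivial multiplier. -/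
theorem cover_multiplier : Cfsg.HasCyclicSchurMultiplier (cover hF) 1 := by
  refine CfsgLib.Schur.cyclic_one_of_forall fun Γ _ _ β hβ => ?_
  have hperf : commutator Γ = ⊤ := by
    rw [eq_top_iff]
    intro d _
    have : β d ∈ (commutator Γ).map β := by
      rw [commutator_def, Subgroup.map_commutator, Subgroup.map_top_of_surjective _ hβ.1, ← commutator_def,
        cover_perfect hF]
      exact Subgroup.mem_top _
    obtain ⟨c, hc, e⟩ := this
    rw [← mul_inv_cancel_left c d]
    exact mul_mem hc (hβ.2.2 (by rw [MonoidHom.mem_ker, map_mul, map_inv, e, inv_mul_cancel]))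
  set θ := (proj hF).comp β
  have hθ : Cfsg.IsStemExtension θ := ⟨(proj_stem hF).1.comp hβ.1,
    OrthBound.central_comp hβ.2.1 hβ.1 hperf (proj_stem hF).2.1, hperf.symm ▸ le_top⟩
  have hd := stem_card hF hθ
  have h1 : Nat.card θ.ker * (proj hF).ker.index = Nat.card Γ := by
    rw [← (proj hF).ker.index_comap_of_surjective hβ.1, MonoidHom.comap_ker]
    exact θ.ker.card_mul_index
  have h2 : Nat.card β.ker * Nat.card (cover hF) = Nat.card Γ := by
    rw [← β.ker.card_mul_index, Subgroup.index_ker, MonoidHom.range_eq_top.2 hβ.1, Subgroup.card_top]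
  rw [← (proj hF).ker.card_mul_index, card_proj_ker hF, ← mul_assoc, ← h1] at h2
  have h3 := Nat.eq_of_mul_eq_mul_right (Nat.pos_of_ne_zero Subgroup.index_ne_zero_of_finite) h2
  rw [← h3] at hd
  refine Subgroup.eq_bot_of_card_eq _ ?_
  have h5 : Nat.card β.ker * 4 ∣ 1 * 4 := by simpa using hd
  exact Nat.dvd_one.1 (Nat.dvd_of_mul_dvd_mul_right (by norm_num) h5)

/-- The multiplier of the projective group. -/
theorem hasSchurMultiplier_psu_six (hF' : Fintype.card F = 4) :
    Cfsg.HasSchurMultiplier (Cfsg.PSU 6 F 2) (Multiplicative (ZMod 3 × ZMod 2 × ZMod 2)) := by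
  have hF : Fintype.card F = 2 ^ 2 := by rw [hF']; rfl
  obtain ⟨e⟩ := eta_ker_equiv hF
  haveI : Finite (Cfsg.PSU 6 F 2) := Finite.of_surjective _ (eta_stem hF).1
  exact OrthMult.hasSchurMultiplier_of_cover (eta_stem hF) e (cover_multiplier hF)

end CfsgLib.KnownA.U6TwoSchur
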